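import Mathlib.LinearAlgebra.Matrix.Determinant.Basic
import Mathlib.LinearAlgebra.Matrix.Notation
import Mathlib.Tactic
import Cfsg.Agent.Prune
set_option linter.all false
open scoped Cfsg.Agent.FastGrp

/-!
# KZ: the Weyl group of type `D₄` as a list of matrices, finite checks (helper12)
-/

set_option autoImplicit false
set_option maxRecDepth 100000
set_option synthInstance.maxSize 4000

namespace Cfsg.Agent.KZ.ClD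

open Matrix

/-- vectors -/
abbrev V4 : Type := ℤ × ℤ × ℤ × ℤ

/-- matrices, as rows -/
abbrev M4 : Type := V4 × V4 × V4 × V4

/-- the scalar product -/
def dt (u v : V4) : ℤ := u.1 * v.1 + u.2.1 * v.2.1 + u.2.2.1 * v.2.2.1 + u.2.2.2 * v.2.2.2

/-- matrix times vector -/
def mv (m : M4) (v : V4) : V4 := (dt m.1 v, dt m.2.1 v, dt m.2.2.1 v, dt m.2.2.2 v)

/-- vector times matrix -/
def vm (v : V4) (m : M4) : V4 :=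
  (dt v (m.1.1, m.2.1.1, m.2.2.1.1, m.2.2.2.1), dt v (m.1.2.1, m.2.1.2.1, m.2.2.1.2.1, m.2.2.2.2.1),
    dt v (m.1.2.2.1, m.2.1.2.2.1, m.2.2.1.2.2.1, m.2.2.2.2.2.1), dt v (m.1.2.2.2, m.2.1.2.2.2, m.2.2.1.2.2.2, m.2.2.2.2.2.2))

/-- the product -/
def mm (a b : M4) : M4 := (vm a.1 b, vm a.2.1 b, vm a.2.2.1 b, vm a.2.2.2 b)

/-- the unit matrix -/
def m1 : M4 := ((1, 0, 0, 0), (0, 1, 0, 0), (0, 0, 1, 0), (0, 0, 0, 1))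

/-- scalar multiples -/
def sc (n : ℤ) (v : V4) : V4 := (n * v.1, n * v.2.1, n * v.2.2.1, n * v.2.2.2)

/-- congruence modulo `3` -/
def e3 (u v : V4) : Bool :=
  (u.1 - v.1) % 3 == 0 && ((u.2.1 - v.2.1) % 3 == 0 && ((u.2.2.1 - v.2.2.1) % 3 == 0 && (u.2.2.2 - v.2.2.2) % 3 == 0))

/-- a minor -/
def d3 (a b c d e f g h i : ℤ) : ℤ := a * (e * i - f * h) - b * (d * i - f * g) + c * (d * h - e * g)

/-- the determinant -/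
def d4 (m : M4) : ℤ :=
  m.1.1 * d3 m.2.1.2.1 m.2.1.2.2.1 m.2.1.2.2.2 m.2.2.1.2.1 m.2.2.1.2.2.1 m.2.2.1.2.2.2 m.2.2.2.2.1 m.2.2.2.2.2.1 m.2.2.2.2.2.2 -
  m.1.2.1 * d3 m.2.1.1 m.2.1.2.2.1 m.2.1.2.2.2 m.2.2.1.1 m.2.2.1.2.2.1 m.2.2.1.2.2.2 m.2.2.2.1 m.2.2.2.2.2.1 m.2.2.2.2.2.2 +
  m.1.2.2.1 * d3 m.2.1.1 m.2.1.2.1 m.2.1.2.2.2 m.2.2.1.1 m.2.2.1.2.1 m.2.2.1.2.2.2 m.2.2.2.1 m.2.2.2.2.1 m.2.2.2.2.2.2 -
  m.1.2.2.2 * d3 m.2.1.1 m.2.1.2.1 m.2.1.2.2.1 m.2.2.1.1 m.2.2.1.2.1 m.2.2.1.2.2.1 m.2.2.2.1 m.2.2.2.2.1 m.2.2.2.2.2.1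

/-- the vector -/
def toV (v : V4) : Fin 4 → ℤ := ![v.1, v.2.1, v.2.2.1, v.2.2.2]

/-- the matrix -/
def toM (m : M4) : Matrix (Fin 4) (Fin 4) ℤ := of ![toV m.1, toV m.2.1, toV m.2.2.1, toV m.2.2.2]

theorem toV_inj : Function.Injective toV := fun _ _ h =>
  Prod.ext (congrFun h 0) (Prod.ext (congrFun h 1) (Prod.ext (congrFun h 2) (congrFun h 3)))

theorem toM_inj : Function.Injective toM := fun _ _ h =>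
  Prod.ext (toV_inj (congrFun h 0)) (Prod.ext (toV_inj (congrFun h 1)) (Prod.ext (toV_inj (congrFun h 2))
    (toV_inj (congrFun h 3))))

theorem toV_surj (x : Fin 4 → ℤ) : toV (x 0, x 1, x 2, x 3) = x := by
  funext i
  fin_cases i <;> rfl

theorem toV_mv (m : M4) (v : V4) : toV (mv m v) = toM m *ᵥ toV v := by
  funext i
  fin_cases i <;> simp [toV, toM, mv, dt, mulVec, dotProduct, Fin.sum_univ_four]

theorem toV_vm (v : V4) (m : M4) : toV (vm v m) = toV v ᵥ* toM m := by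
  funext i
  fin_cases i <;> simp [toV, toM, vm, dt, vecMul, dotProduct, Fin.sum_univ_four]

theorem toM_mm (a b : M4) : toM (mm a b) = toM a * toM b := by
  ext i j
  fin_cases i <;> exact congrFun (toV_vm _ b) j

theorem toM_m1 : toM m1 = 1 := by decide +kernel

theorem toV_sc (n : ℤ) (v : V4) : toV (sc n v) = n • toV v := by
  funext i
  fin_cases i <;> rfl

theorem e3_iff {u v : V4} : e3 u v = true ↔ ∀ j, 3 ∣ toV u j - toV v j := by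
  simp only [e3, Bool.and_eq_true, beq_iff_eq, Fin.forall_fin_succ, Int.dvd_iff_emod_eq_zero]
  simp [toV]

theorem det_toM (m : M4) : (toM m).det = d4 m := by
  simp [toM, toV, d4, d3, det_succ_row_zero, Fin.sum_univ_succ, Fin.succAbove]
  ring

/-- the matrices -/
def LW0 : List M4 := [
  ((1, 0, 0, 0), (0, 1, 0, 0), (0, 0, 1, 0), (0, 0, 0, 1)),
  ((-1, 0, 0, 0), (1, 1, 0, 0), (0, 0, 1, 0), (0, 0, 0, 1)),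
  ((1, 1, 0, 0), (0, -1, 0, 0), (0, 1, 1, 0), (0, 1, 0, 1)),
  ((1, 0, 0, 0), (0, 1, 1, 0), (0, 0, -1, 0), (0, 0, 0, 1)),
  ((1, 0, 0, 0), (0, 1, 0, 1), (0, 0, 1, 0), (0, 0, 0, -1)),
  ((0, 1, 0, 0), (-1, -1, 0, 0), (1, 1, 1, 0), (1, 1, 0, 1)),
  ((-1, 0, 0, 0), (1, 1, 1, 0), (0, 0, -1, 0), (0, 0, 0, 1)),
  ((-1, 0, 0, 0), (1, 1, 0, 1), (0, 0, 1, 0), (0, 0, 0, -1)),
  ((-1, -1, 0, 0), (1, 0, 0, 0), (0, 1, 1, 0), (0, 1, 0, 1)),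
  ((1, 1, 0, 0), (0, 0, 1, 0), (0, -1, -1, 0), (0, 1, 0, 1)),
  ((1, 1, 0, 0), (0, 0, 0, 1), (0, 1, 1, 0), (0, -1, 0, -1)),
  ((1, 1, 1, 0), (0, -1, -1, 0), (0, 1, 0, 0), (0, 1, 1, 1)),
  ((1, 0, 0, 0), (0, 1, 1, 1), (0, 0, -1, 0), (0, 0, 0, -1)),
  ((1, 1, 0, 1), (0, -1, 0, -1), (0, 1, 1, 1), (0, 1, 0, 0)),
  ((0, -1, 0, 0), (-1, 0, 0, 0), (1, 1, 1, 0), (1, 1, 0, 1)),
  ((0, 1, 0, 0), (0, 0, 1, 0), (-1, -1, -1, 0), (1, 1, 0, 1)),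
  ((0, 1, 0, 0), (0, 0, 0, 1), (1, 1, 1, 0), (-1, -1, 0, -1)),
  ((0, 1, 1, 0), (-1, -1, -1, 0), (1, 1, 0, 0), (1, 1, 1, 1)),
  ((-1, 0, 0, 0), (1, 1, 1, 1), (0, 0, -1, 0), (0, 0, 0, -1)),
  ((0, 1, 0, 1), (-1, -1, 0, -1), (1, 1, 1, 1), (1, 1, 0, 0)),
  ((-1, -1, 0, 0), (1, 1, 1, 0), (0, -1, -1, 0), (0, 1, 0, 1)),
  ((-1, -1, 0, 0), (1, 1, 0, 1), (0, 1, 1, 0), (0, -1, 0, -1)),
  ((1, 1, 1, 0), (0, 0, -1, 0), (0, -1, 0, 0), (0, 1, 1, 1)),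
  ((1, 1, 0, 0), (0, 1, 1, 1), (0, -1, -1, 0), (0, -1, 0, -1)),
  ((1, 1, 0, 1), (0, 0, 0, -1), (0, 1, 1, 1), (0, -1, 0, 0)),
  ((-1, -1, -1, 0), (1, 0, 0, 0), (0, 1, 0, 0), (0, 1, 1, 1)),
  ((1, 1, 1, 0), (0, 0, 0, 1), (0, 1, 0, 0), (0, -1, -1, -1)),
  ((1, 1, 1, 1), (0, -1, -1, -1), (0, 1, 0, 1), (0, 1, 1, 0)),
  ((-1, -1, 0, -1), (1, 0, 0, 0), (0, 1, 1, 1), (0, 1, 0, 0)),
  ((1, 1, 0, 1), (0, 0, 1, 0), (0, -1, -1, -1), (0, 1, 0, 0)),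
  ((0, -1, 0, 0), (0, 1, 1, 0), (-1, -1, -1, 0), (1, 1, 0, 1)),
  ((0, -1, 0, 0), (0, 1, 0, 1), (1, 1, 1, 0), (-1, -1, 0, -1))]

/-- the matrices -/
def LW1 : List M4 := [
  ((0, 1, 1, 0), (0, 0, -1, 0), (-1, -1, 0, 0), (1, 1, 1, 1)),
  ((0, 1, 0, 0), (1, 1, 1, 1), (-1, -1, -1, 0), (-1, -1, 0, -1)),
  ((0, 1, 0, 1), (0, 0, 0, -1), (1, 1, 1, 1), (-1, -1, 0, 0)),
  ((0, -1, -1, 0), (-1, 0, 0, 0), (1, 1, 0, 0), (1, 1, 1, 1)),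
  ((0, 1, 1, 0), (0, 0, 0, 1), (1, 1, 0, 0), (-1, -1, -1, -1)),
  ((0, 1, 1, 1), (-1, -1, -1, -1), (1, 1, 0, 1), (1, 1, 1, 0)),
  ((0, -1, 0, -1), (-1, 0, 0, 0), (1, 1, 1, 1), (1, 1, 0, 0)),
  ((0, 1, 0, 1), (0, 0, 1, 0), (-1, -1, -1, -1), (1, 1, 0, 0)),
  ((0, 0, 1, 0), (-1, -1, -1, 0), (1, 0, 0, 0), (1, 2, 1, 1)),
  ((-1, -1, 0, 0), (1, 2, 1, 1), (0, -1, -1, 0), (0, -1, 0, -1)),
  ((0, 0, 0, 1), (-1, -1, 0, -1), (1, 2, 1, 1), (1, 0, 0, 0)),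
  ((-1, -1, -1, 0), (1, 1, 0, 0), (0, -1, 0, 0), (0, 1, 1, 1)),
  ((1, 1, 1, 0), (0, 1, 0, 1), (0, -1, 0, 0), (0, -1, -1, -1)),
  ((1, 2, 1, 1), (0, -1, -1, -1), (0, 0, 0, 1), (0, 0, 1, 0)),
  ((-1, -1, 0, -1), (1, 1, 0, 0), (0, 1, 1, 1), (0, -1, 0, 0)),
  ((1, 1, 0, 1), (0, 1, 1, 0), (0, -1, -1, -1), (0, -1, 0, 0)),
  ((-1, -1, -1, 0), (1, 1, 1, 1), (0, 1, 0, 0), (0, -1, -1, -1)),
  ((1, 1, 1, 1), (0, 0, 0, -1), (0, 1, 0, 1), (0, -1, -1, 0)),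
  ((-1, -1, -1, -1), (1, 0, 0, 0), (0, 1, 0, 1), (0, 1, 1, 0)),
  ((1, 1, 1, 1), (0, 0, -1, 0), (0, -1, 0, -1), (0, 1, 1, 0)),
  ((-1, -1, 0, -1), (1, 1, 1, 1), (0, -1, -1, -1), (0, 1, 0, 0)),
  ((0, 0, 1, 0), (0, -1, -1, 0), (-1, 0, 0, 0), (1, 2, 1, 1)),
  ((0, -1, 0, 0), (1, 2, 1, 1), (-1, -1, -1, 0), (-1, -1, 0, -1)),
  ((0, 0, 0, 1), (0, -1, 0, -1), (1, 2, 1, 1), (-1, 0, 0, 0)),
  ((0, -1, -1, 0), (0, 1, 0, 0), (-1, -1, 0, 0), (1, 1, 1, 1)),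
  ((0, 1, 1, 0), (1, 1, 0, 1), (-1, -1, 0, 0), (-1, -1, -1, -1)),
  ((1, 2, 1, 1), (-1, -1, -1, -1), (0, 0, 0, 1), (0, 0, 1, 0)),
  ((0, -1, 0, -1), (0, 1, 0, 0), (1, 1, 1, 1), (-1, -1, 0, 0)),
  ((0, 1, 0, 1), (1, 1, 1, 0), (-1, -1, -1, -1), (-1, -1, 0, 0)),
  ((0, -1, -1, 0), (0, 1, 1, 1), (1, 1, 0, 0), (-1, -1, -1, -1)),
  ((0, 1, 1, 1), (0, 0, 0, -1), (1, 1, 0, 1), (-1, -1, -1, 0)),
  ((0, -1, -1, -1), (-1, 0, 0, 0), (1, 1, 0, 1), (1, 1, 1, 0))]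

/-- the matrices -/
def LW2 : List M4 := [
  ((0, 1, 1, 1), (0, 0, -1, 0), (-1, -1, 0, -1), (1, 1, 1, 0)),
  ((0, -1, 0, -1), (0, 1, 1, 1), (-1, -1, -1, -1), (1, 1, 0, 0)),
  ((0, 0, -1, 0), (-1, -1, 0, 0), (1, 0, 0, 0), (1, 2, 1, 1)),
  ((0, 0, 1, 0), (0, 1, 0, 1), (1, 0, 0, 0), (-1, -2, -1, -1)),
  ((0, 1, 1, 1), (-1, -2, -1, -1), (1, 1, 0, 1), (1, 1, 1, 0)),
  ((0, 0, 0, -1), (-1, -1, 0, 0), (1, 2, 1, 1), (1, 0, 0, 0)),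
  ((0, 0, 0, 1), (0, 1, 1, 0), (-1, -2, -1, -1), (1, 0, 0, 0)),
  ((-1, -1, -1, 0), (1, 2, 1, 1), (0, -1, 0, 0), (0, -1, -1, -1)),
  ((1, 2, 1, 1), (0, -1, 0, -1), (0, 0, 0, 1), (0, 0, -1, 0)),
  ((-1, -2, -1, -1), (1, 1, 0, 0), (0, 0, 0, 1), (0, 0, 1, 0)),
  ((1, 2, 1, 1), (0, -1, -1, 0), (0, 0, 0, -1), (0, 0, 1, 0)),
  ((-1, -1, 0, -1), (1, 2, 1, 1), (0, -1, -1, -1), (0, -1, 0, 0)),
  ((0, 0, 0, 1), (-1, -1, -1, -1), (1, 2, 1, 1), (1, 0, 0, 0)),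
  ((-1, -1, -1, -1), (1, 1, 1, 0), (0, 1, 0, 1), (0, -1, -1, 0)),
  ((1, 1, 1, 1), (0, 1, 0, 0), (0, -1, 0, -1), (0, -1, -1, 0)),
  ((-1, -1, -1, -1), (1, 1, 0, 1), (0, -1, 0, -1), (0, 1, 1, 0)),
  ((0, 0, 1, 0), (-1, -1, -1, -1), (1, 0, 0, 0), (1, 2, 1, 1)),
  ((0, 0, -1, 0), (0, -1, 0, 0), (-1, 0, 0, 0), (1, 2, 1, 1)),
  ((0, 0, 1, 0), (1, 1, 0, 1), (-1, 0, 0, 0), (-1, -2, -1, -1)),
  ((1, 1, 1, 1), (-1, -2, -1, -1), (0, 1, 0, 1), (0, 1, 1, 0)),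
  ((0, 0, 0, -1), (0, -1, 0, 0), (1, 2, 1, 1), (-1, 0, 0, 0)),
  ((0, 0, 0, 1), (1, 1, 1, 0), (-1, -2, -1, -1), (-1, 0, 0, 0)),
  ((0, -1, -1, 0), (1, 2, 1, 1), (-1, -1, 0, 0), (-1, -1, -1, -1)),
  ((1, 2, 1, 1), (-1, -1, 0, -1), (0, 0, 0, 1), (0, 0, -1, 0)),
  ((-1, -2, -1, -1), (0, 1, 0, 0), (0, 0, 0, 1), (0, 0, 1, 0)),
  ((1, 2, 1, 1), (-1, -1, -1, 0), (0, 0, 0, -1), (0, 0, 1, 0)),
  ((0, -1, 0, -1), (1, 2, 1, 1), (-1, -1, -1, -1), (-1, -1, 0, 0)),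
  ((0, 0, 0, 1), (0, -1, -1, -1), (1, 2, 1, 1), (-1, 0, 0, 0)),
  ((0, -1, -1, -1), (0, 1, 1, 0), (1, 1, 0, 1), (-1, -1, -1, 0)),
  ((0, 1, 1, 1), (1, 1, 0, 0), (-1, -1, 0, -1), (-1, -1, -1, 0)),
  ((0, -1, -1, -1), (0, 1, 0, 1), (-1, -1, 0, -1), (1, 1, 1, 0)),
  ((0, 0, 1, 0), (0, -1, -1, -1), (-1, 0, 0, 0), (1, 2, 1, 1))]

/-- the matrices -/
def LW3 : List M4 := [
  ((0, 0, -1, 0), (0, 1, 1, 1), (1, 0, 0, 0), (-1, -2, -1, -1)),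
  ((0, 1, 1, 1), (0, -1, 0, -1), (1, 1, 0, 1), (-1, -1, -1, 0)),
  ((0, -1, -1, -1), (-1, -1, 0, 0), (1, 1, 0, 1), (1, 1, 1, 0)),
  ((0, 1, 1, 1), (0, -1, -1, 0), (-1, -1, 0, -1), (1, 1, 1, 0)),
  ((0, 0, 0, -1), (0, 1, 1, 1), (-1, -2, -1, -1), (1, 0, 0, 0)),
  ((0, 1, 0, 1), (-1, -2, -1, -1), (1, 1, 1, 1), (1, 1, 0, 0)),
  ((-1, -2, -1, -1), (1, 1, 1, 0), (0, 0, 0, 1), (0, 0, -1, 0)),
  ((1, 2, 1, 1), (0, -1, 0, 0), (0, 0, 0, -1), (0, 0, -1, 0)),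
  ((-1, -2, -1, -1), (1, 1, 0, 1), (0, 0, 0, -1), (0, 0, 1, 0)),
  ((0, 1, 1, 0), (-1, -2, -1, -1), (1, 1, 0, 0), (1, 1, 1, 1)),
  ((0, 0, 0, -1), (-1, -1, -1, 0), (1, 2, 1, 1), (1, 0, 0, 0)),
  ((0, 0, 0, 1), (0, 1, 0, 0), (-1, -2, -1, -1), (1, 0, 0, 0)),
  ((-1, -1, -1, -1), (1, 2, 1, 1), (0, -1, 0, -1), (0, -1, -1, 0)),
  ((0, 0, -1, 0), (-1, -1, 0, -1), (1, 0, 0, 0), (1, 2, 1, 1)),
  ((0, 0, 1, 0), (0, 1, 0, 0), (1, 0, 0, 0), (-1, -2, -1, -1)),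
  ((0, 0, -1, 0), (1, 1, 1, 1), (-1, 0, 0, 0), (-1, -2, -1, -1)),
  ((1, 1, 1, 1), (-1, -1, 0, -1), (0, 1, 0, 1), (0, -1, -1, 0)),
  ((-1, -1, -1, -1), (0, -1, 0, 0), (0, 1, 0, 1), (0, 1, 1, 0)),
  ((1, 1, 1, 1), (-1, -1, -1, 0), (0, -1, 0, -1), (0, 1, 1, 0)),
  ((0, 0, 0, -1), (1, 1, 1, 1), (-1, -2, -1, -1), (-1, 0, 0, 0)),
  ((1, 1, 0, 1), (-1, -2, -1, -1), (0, 1, 1, 1), (0, 1, 0, 0)),
  ((-1, -2, -1, -1), (0, 1, 1, 0), (0, 0, 0, 1), (0, 0, -1, 0)),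
  ((1, 2, 1, 1), (-1, -1, 0, 0), (0, 0, 0, -1), (0, 0, -1, 0)),
  ((-1, -2, -1, -1), (0, 1, 0, 1), (0, 0, 0, -1), (0, 0, 1, 0)),
  ((1, 1, 1, 0), (-1, -2, -1, -1), (0, 1, 0, 0), (0, 1, 1, 1)),
  ((0, 0, 0, -1), (0, -1, -1, 0), (1, 2, 1, 1), (-1, 0, 0, 0)),
  ((0, 0, 0, 1), (1, 1, 0, 0), (-1, -2, -1, -1), (-1, 0, 0, 0)),
  ((0, -1, -1, -1), (1, 2, 1, 1), (-1, -1, 0, -1), (-1, -1, -1, 0)),
  ((0, 0, -1, 0), (0, -1, 0, -1), (-1, 0, 0, 0), (1, 2, 1, 1)),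
  ((0, 0, 1, 0), (1, 1, 0, 0), (-1, 0, 0, 0), (-1, -2, -1, -1)),
  ((0, 1, 0, 1), (0, -1, -1, -1), (1, 1, 1, 1), (-1, -1, 0, 0)),
  ((0, -1, -1, -1), (0, 0, 1, 0), (1, 1, 0, 1), (-1, -1, -1, 0))]

/-- the matrices -/
def LW4 : List M4 := [
  ((0, 1, 1, 1), (1, 0, 0, 0), (-1, -1, 0, -1), (-1, -1, -1, 0)),
  ((0, -1, -1, -1), (0, 0, 0, 1), (-1, -1, 0, -1), (1, 1, 1, 0)),
  ((0, 1, 1, 0), (0, -1, -1, -1), (-1, -1, 0, 0), (1, 1, 1, 1)),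
  ((0, -1, 0, -1), (-1, -1, -1, 0), (1, 1, 1, 1), (1, 1, 0, 0)),
  ((0, 1, 0, 1), (0, -1, 0, 0), (-1, -1, -1, -1), (1, 1, 0, 0)),
  ((-1, -2, -1, -1), (1, 1, 1, 1), (0, 0, 0, -1), (0, 0, -1, 0)),
  ((0, -1, -1, 0), (-1, -1, 0, -1), (1, 1, 0, 0), (1, 1, 1, 1)),
  ((0, 1, 1, 0), (0, -1, 0, 0), (1, 1, 0, 0), (-1, -1, -1, -1)),
  ((0, 0, 0, -1), (0, 1, 0, 1), (-1, -2, -1, -1), (1, 0, 0, 0)),
  ((0, 1, 0, 0), (-1, -2, -1, -1), (1, 1, 1, 0), (1, 1, 0, 1)),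
  ((0, 0, -1, 0), (0, 1, 1, 0), (1, 0, 0, 0), (-1, -2, -1, -1)),
  ((1, 1, 0, 1), (-1, -1, -1, -1), (0, 1, 1, 1), (0, -1, 0, 0)),
  ((-1, -1, -1, -1), (0, 0, 1, 0), (0, 1, 0, 1), (0, -1, -1, 0)),
  ((1, 1, 1, 1), (-1, 0, 0, 0), (0, -1, 0, -1), (0, -1, -1, 0)),
  ((-1, -1, -1, -1), (0, 0, 0, 1), (0, -1, 0, -1), (0, 1, 1, 0)),
  ((1, 1, 1, 0), (-1, -1, -1, -1), (0, -1, 0, 0), (0, 1, 1, 1)),
  ((-1, -1, 0, -1), (0, -1, -1, 0), (0, 1, 1, 1), (0, 1, 0, 0)),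
  ((1, 1, 0, 1), (-1, -1, 0, 0), (0, -1, -1, -1), (0, 1, 0, 0)),
  ((-1, -2, -1, -1), (0, 1, 1, 1), (0, 0, 0, -1), (0, 0, -1, 0)),
  ((-1, -1, -1, 0), (0, -1, 0, -1), (0, 1, 0, 0), (0, 1, 1, 1)),
  ((1, 1, 1, 0), (-1, -1, 0, 0), (0, 1, 0, 0), (0, -1, -1, -1)),
  ((0, 0, 0, -1), (1, 1, 0, 1), (-1, -2, -1, -1), (-1, 0, 0, 0)),
  ((1, 1, 0, 0), (-1, -2, -1, -1), (0, 1, 1, 0), (0, 1, 0, 1)),
  ((0, 0, -1, 0), (1, 1, 1, 0), (-1, 0, 0, 0), (-1, -2, -1, -1)),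
  ((0, -1, 0, -1), (0, 0, -1, 0), (1, 1, 1, 1), (-1, -1, 0, 0)),
  ((0, 1, 0, 1), (1, 0, 0, 0), (-1, -1, -1, -1), (-1, -1, 0, 0)),
  ((0, -1, -1, -1), (1, 1, 1, 1), (-1, -1, 0, -1), (-1, -1, -1, 0)),
  ((0, -1, -1, 0), (0, 0, 0, -1), (-1, -1, 0, 0), (1, 1, 1, 1)),
  ((0, 1, 1, 0), (1, 0, 0, 0), (-1, -1, 0, 0), (-1, -1, -1, -1)),
  ((0, -1, 0, -1), (0, 0, 0, 1), (-1, -1, -1, -1), (1, 1, 0, 0)),
  ((0, -1, 0, 0), (-1, -1, -1, -1), (1, 1, 1, 0), (1, 1, 0, 1)),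
  ((0, -1, -1, 0), (0, 0, 1, 0), (1, 1, 0, 0), (-1, -1, -1, -1))]

/-- the matrices -/
def LW5 : List M4 := [
  ((0, 1, 0, 0), (0, -1, 0, -1), (-1, -1, -1, 0), (1, 1, 0, 1)),
  ((0, 1, 0, 0), (0, -1, -1, 0), (1, 1, 1, 0), (-1, -1, 0, -1)),
  ((-1, -1, 0, -1), (0, 0, -1, 0), (0, 1, 1, 1), (0, -1, 0, 0)),
  ((1, 1, 0, 1), (-1, 0, 0, 0), (0, -1, -1, -1), (0, -1, 0, 0)),
  ((-1, -1, -1, -1), (0, 1, 1, 1), (0, -1, 0, -1), (0, -1, -1, 0)),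
  ((-1, -1, -1, 0), (0, 0, 0, -1), (0, -1, 0, 0), (0, 1, 1, 1)),
  ((1, 1, 1, 0), (-1, 0, 0, 0), (0, -1, 0, 0), (0, -1, -1, -1)),
  ((-1, -1, 0, -1), (0, 0, 0, 1), (0, -1, -1, -1), (0, 1, 0, 0)),
  ((-1, -1, 0, 0), (0, -1, -1, -1), (0, 1, 1, 0), (0, 1, 0, 1)),
  ((-1, -1, -1, 0), (0, 0, 1, 0), (0, 1, 0, 0), (0, -1, -1, -1)),
  ((1, 1, 0, 0), (-1, -1, 0, -1), (0, -1, -1, 0), (0, 1, 0, 1)),
  ((1, 1, 0, 0), (-1, -1, -1, 0), (0, 1, 1, 0), (0, -1, 0, -1)),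
  ((0, -1, 0, -1), (1, 1, 0, 1), (-1, -1, -1, -1), (-1, -1, 0, 0)),
  ((1, 0, 0, 0), (-1, -1, -1, -1), (0, 0, 1, 0), (0, 0, 0, 1)),
  ((0, -1, -1, 0), (1, 1, 1, 0), (-1, -1, 0, 0), (-1, -1, -1, -1)),
  ((0, -1, 0, 0), (0, 0, 0, -1), (-1, -1, -1, 0), (1, 1, 0, 1)),
  ((0, -1, 0, 0), (0, 0, -1, 0), (1, 1, 1, 0), (-1, -1, 0, -1)),
  ((0, 1, 0, 0), (1, 0, 0, 0), (-1, -1, -1, 0), (-1, -1, 0, -1)),
  ((-1, -1, 0, -1), (0, 1, 0, 1), (0, -1, -1, -1), (0, -1, 0, 0)),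
  ((-1, 0, 0, 0), (0, -1, -1, -1), (0, 0, 1, 0), (0, 0, 0, 1)),
  ((-1, -1, -1, 0), (0, 1, 1, 0), (0, -1, 0, 0), (0, -1, -1, -1)),
  ((-1, -1, 0, 0), (0, 0, 0, -1), (0, -1, -1, 0), (0, 1, 0, 1)),
  ((-1, -1, 0, 0), (0, 0, -1, 0), (0, 1, 1, 0), (0, -1, 0, -1)),
  ((1, 1, 0, 0), (-1, 0, 0, 0), (0, -1, -1, 0), (0, -1, 0, -1)),
  ((1, 0, 0, 0), (-1, -1, 0, -1), (0, 0, -1, 0), (0, 0, 0, 1)),
  ((1, 0, 0, 0), (-1, -1, -1, 0), (0, 0, 1, 0), (0, 0, 0, -1)),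
  ((0, -1, 0, 0), (1, 1, 0, 0), (-1, -1, -1, 0), (-1, -1, 0, -1)),
  ((-1, 0, 0, 0), (0, -1, 0, -1), (0, 0, -1, 0), (0, 0, 0, 1)),
  ((-1, 0, 0, 0), (0, -1, -1, 0), (0, 0, 1, 0), (0, 0, 0, -1)),
  ((-1, -1, 0, 0), (0, 1, 0, 0), (0, -1, -1, 0), (0, -1, 0, -1)),
  ((1, 0, 0, 0), (-1, -1, 0, 0), (0, 0, -1, 0), (0, 0, 0, -1)),
  ((-1, 0, 0, 0), (0, -1, 0, 0), (0, 0, -1, 0), (0, 0, 0, -1))]

/-- the orbit of `x3` modulo `3` -/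
def X3 : List V4 := [
  (0, 1, 0, 2), (0, 1, 1, 2), (0, 1, 2, 0), (0, 1, 2, 1), (0, 2, 0, 1), (0, 2, 1, 0), (0, 2, 1, 2), (0, 2, 2, 1), (1, 0, 1, 1), (1, 0, 1, 2), (1, 0, 2, 1), (1, 0, 2, 2), (1, 1, 0, 2), (1, 1, 1, 2), (1, 1, 2, 0), (1, 1, 2, 1), (1, 2, 0, 0), (1, 2, 0, 2), (1, 2, 2, 0), (1, 2, 2, 2), (2, 0, 1, 1), (2, 0, 1, 2), (2, 0, 2, 1), (2, 0, 2, 2), (2, 1, 0, 0), (2, 1, 0, 1), (2, 1, 1, 0), (2, 1, 1, 1), (2, 2, 0, 1), (2, 2, 1, 0), (2, 2, 1, 2), (2, 2, 2, 1)]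

/-- the orbit of `(1, 0, 0, 0)` modulo `3` -/
def X8 : List V4 := [(0, 0, 1, 1), (0, 0, 1, 2), (0, 0, 2, 1), (0, 0, 2, 2), (0, 1, 2, 2), (0, 2, 1, 1), (1, 1, 2, 2), (2, 2, 1, 1)]

/-- the generators -/
def SG : Fin 4 → M4 := ![((-1, 0, 0, 0), (1, 1, 0, 0), (0, 0, 1, 0), (0, 0, 0, 1)), ((1, 1, 0, 0), (0, -1, 0, 0), (0, 1, 1, 0), (0, 1, 0, 1)), ((1, 0, 0, 0), (0, 1, 1, 0), (0, 0, -1, 0), (0, 0, 0, 1)), ((1, 0, 0, 0), (0, 1, 0, 1), (0, 0, 1, 0), (0, 0, 0, -1))]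

/-- the symmetries of the diagram -/
def LB : List M4 := [
  ((1, 0, 0, 0), (0, 1, 0, 0), (0, 0, 1, 0), (0, 0, 0, 1)),
  ((0, 0, 0, 1), (0, 1, 0, 0), (1, 0, 0, 0), (0, 0, 1, 0)),
  ((0, 0, 1, 0), (0, 1, 0, 0), (0, 0, 0, 1), (1, 0, 0, 0)),
  ((0, 0, 1, 0), (0, 1, 0, 0), (1, 0, 0, 0), (0, 0, 0, 1)),
  ((0, 0, 0, 1), (0, 1, 0, 0), (0, 0, 1, 0), (1, 0, 0, 0)),
  ((1, 0, 0, 0), (0, 1, 0, 0), (0, 0, 0, 1), (0, 0, 1, 0))]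

/-- the Weyl group -/
def LW : List M4 := LW0 ++ LW1 ++ LW2 ++ LW3 ++ LW4 ++ LW5

/-- the labels -/
def xs : Fin 5 → V4 := ![(0, 0, 0, 0), (2, 4, 3, 3), (1, 2, 1, 2), (1, 2, 2, 1), (2, 2, 1, 1)]

/-- the Levi subgroups -/
def ls : Fin 5 → V4 := ![(0, 0, 0, 0), (0, 0, 1, 1), (0, 0, 0, 1), (0, 0, 1, 0), (1, 0, 0, 0)]

/-- the Levi subgroups of type `A₁ A₁` -/
def la : Fin 3 → V4 := ![(0, 1, 0, 1), (0, 1, 1, 0), (1, 1, 0, 0)]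

/-- the Levi subgroups of type `A₂` -/
def lb : Fin 3 → V4 := ![(0, 0, 1, 1), (0, 0, 1, 1), (1, 0, 0, 1)]

/-- the position of the labels of type `A₃` -/
def t4 : Fin 3 → Fin 5 := ![2, 3, 4]

/-- `m` fixes `x` modulo `3` -/
def fx (x : V4) (m : M4) : Bool := e3 (vm x m) x

/-- the stabilisers -/
def LS (t : Fin 5) : List M4 := LW.filter (fx (xs t))

/-- three class functions -/
def ph (i : Fin 3) (m : M4) : ℤ :=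
  if i = 0 then 1 else if i = 1 then d4 m else if d4 m = 1 then (if mm m m = m1 then 2 else -1) else 0

/-- the index of the label -/
def jt : Fin 4 ⊕ Fin 3 × Fin 3 → Fin 5
  | .inl i => ![0, 0, 1, 1] i
  | .inr i => t4 i.2

/-- the index of the class function -/
def ji : Fin 4 ⊕ Fin 3 × Fin 3 → Fin 3
  | .inl i => ![0, 1, 0, 1] i
  | .inr i => i.1

theorem len_LW : LW.length = 192 := by decide +kernel

theorem m1_mem : m1 ∈ LW := by decide +kernel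

namespace CL

/-- the sum -/
def ad (u v : V4) : V4 := (u.1 + v.1, u.2.1 + v.2.1, u.2.2.1 + v.2.2.1, u.2.2.2 + v.2.2.2)

/-- the negative -/
def ng (u : V4) : V4 := (-u.1, -u.2.1, -u.2.2.1, -u.2.2.2)

theorem s0 (m : M4) : mm (SG 0) m = (ng m.1, ad m.1 m.2.1, m.2.2.1, m.2.2.2) := by
  show (vm (-1, 0, 0, 0) m, vm (1, 1, 0, 0) m, vm (0, 0, 1, 0) m, vm (0, 0, 0, 1) m) = _
  simp only [vm, dt, ad, ng, one_mul, zero_mul, add_zero, zero_add, neg_mul]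

theorem s1 (m : M4) : mm (SG 1) m = (ad m.1 m.2.1, ng m.2.1, ad m.2.1 m.2.2.1, ad m.2.1 m.2.2.2) := by
  show (vm (1, 1, 0, 0) m, vm (0, -1, 0, 0) m, vm (0, 1, 1, 0) m, vm (0, 1, 0, 1) m) = _
  simp only [vm, dt, ad, ng, one_mul, zero_mul, add_zero, zero_add, neg_mul]

theorem s2 (m : M4) : mm (SG 2) m = (m.1, ad m.2.1 m.2.2.1, ng m.2.2.1, m.2.2.2) := by
  show (vm (1, 0, 0, 0) m, vm (0, 1, 1, 0) m, vm (0, 0, -1, 0) m, vm (0, 0, 0, 1) m) = _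
  simp only [vm, dt, ad, ng, one_mul, zero_mul, add_zero, zero_add, neg_mul]

theorem s3 (m : M4) : mm (SG 3) m = (m.1, ad m.2.1 m.2.2.2, m.2.2.1, ng m.2.2.2) := by
  show (vm (1, 0, 0, 0) m, vm (0, 1, 0, 1) m, vm (0, 0, 1, 0) m, vm (0, 0, 0, -1) m) = _
  simp only [vm, dt, ad, ng, one_mul, zero_mul, add_zero, zero_add, neg_mul]

/-- an entry of a list -/
noncomputable def nt {β : Type} (d : β) (l : List β) : ℕ → β :=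
  List.rec (fun _ => d) (fun a _ ih n => Nat.rec a (fun m _ => ih m) n) l

theorem nt_mem {β : Type} (d : β) (l : List β) (n : ℕ) : nt d l n = d ∨ nt d l n ∈ l := by
  induction l generalizing n with
  | nil => exact Or.inl rfl
  | cons a l ih => cases n with
    | zero => exact Or.inr List.mem_cons_self
    | succ n => exact (ih n).imp id (List.mem_cons_of_mem _)

/-- an entry of the list -/
noncomputable def el (T : ℕ) : M4 :=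
  nt m1 (nt LW0 [LW0, LW1, LW2, LW3, LW4, LW5] (Nat.land (Nat.shiftRight T 5) 7)) (Nat.land T 31)

theorem el_mem (T : ℕ) : el T ∈ LW := by
  unfold el
  generalize Nat.land (Nat.shiftRight T 5) 7 = a
  have h : ∀ l ∈ [LW0, LW1, LW2, LW3, LW4, LW5], ∀ x ∈ l, x ∈ LW := by
    simp only [List.forall_mem_cons, LW, List.mem_append]
    exact ⟨fun _ h => .inl (.inl (.inl (.inl (.inl h)))), fun _ h => .inl (.inl (.inl (.inl (.inr h)))),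
      fun _ h => .inl (.inl (.inl (.inr h))), fun _ h => .inl (.inl (.inr h)), fun _ h => .inl (.inr h), fun _ h => .inr h,
      fun _ h => absurd h List.not_mem_nil⟩
  rcases nt_mem m1 (nt LW0 [LW0, LW1, LW2, LW3, LW4, LW5] a) (Nat.land T 31) with h1 | h1
  · rw [h1]
    exact m1_mem
  · exact h _ ((nt_mem LW0 _ a).elim (fun e => e.symm ▸ List.mem_cons_self) id) _ h1

/-- the check -/
noncomputable def chk (l : List M4) : ℕ → Bool :=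
  List.rec (fun _ => true) (fun m _ ih T => and (decide ((ng m.1, ad m.1 m.2.1, m.2.2.1, m.2.2.2) = el T))
    (and (decide ((ad m.1 m.2.1, ng m.2.1, ad m.2.1 m.2.2.1, ad m.2.1 m.2.2.2) = el (Nat.shiftRight T 8)))
      (and (decide ((m.1, ad m.2.1 m.2.2.1, ng m.2.2.1, m.2.2.2) = el (Nat.shiftRight T 16)))
        (and (decide ((m.1, ad m.2.1 m.2.2.2, m.2.2.1, ng m.2.2.2) = el (Nat.shiftRight T 24)))
          (ih (Nat.shiftRight T 32)))))) l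

theorem chk_spec {l : List M4} {T : ℕ} (h : chk l T = true) : ∀ m ∈ l, ∀ i : Fin 4, mm (SG i) m ∈ LW := by
  induction l generalizing T with
  | nil => exact fun _ hm => absurd hm List.not_mem_nil
  | cons m l ih =>
    obtain ⟨h0, h⟩ := Bool.and_eq_true_iff.1 (show and _ _ = true from h)
    obtain ⟨h1, h⟩ := Bool.and_eq_true_iff.1 h
    obtain ⟨h2, h⟩ := Bool.and_eq_true_iff.1 h
    obtain ⟨h3, h⟩ := Bool.and_eq_true_iff.1 h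
    refine List.forall_mem_cons.2 ⟨fun i => ?_, ih h⟩
    match i with
    | 0 => exact ((s0 m).trans (of_decide_eq_true h0)).symm ▸ el_mem _
    | 1 => exact ((s1 m).trans (of_decide_eq_true h1)).symm ▸ el_mem _
    | 2 => exact ((s2 m).trans (of_decide_eq_true h2)).symm ▸ el_mem _
    | 3 => exact ((s3 m).trans (of_decide_eq_true h3)).symm ▸ el_mem _

end CL

theorem closed : ∀ m ∈ LW, ∀ i : Fin 4, mm (SG i) m ∈ LW :=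
  CL.chk_spec (T := 0xbbbcbdbeb8b9babfb5b6bfb7b3bfb4b9bfb3b2b8afb0beb1adbeaebcbeadacbbaaabb1bda8bda9abbda8a7aaa5a9bca6bcbba4ada7a2bba3a0a1b7ba9eba9fa1ba9e9da09b9fb99cb9b89ab39d98b89996b797b6b79695b593b4b694b6b59296b290b5918f949cb4b4938e8f8e8cb38d918b99b290b28c8b89b18ab0b18988af86aeb087b0af8589ac83af848287a6aeae868182817fad80847ea3ac83ac7f7e7c8aab7dabaa7ba88879aa7a78a67da9a9a577787775a876a3747aa7a2a77574a67873a5a471a572727080a471a4a27074a36fa26d97a16ea1a06c9e956aa06b699c6e9f9f9b686968669e6799656b9d989d66659c69649b9a629b6363618d9a629a9861659960985f6e9497976d5e5f5e5c965d6b5b91956a955c5b948f5a939258935959575d92589290578b91569064548f558d53558e8c8e5853538d528c51608b52507d878a8a7c4f504f4d894e7a4c848879884d4c87824b868549864a4a484e85498583487e84478373458246804446817f8149444480437f426f7e437d50417c7b3f7c40403e76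7b3f7b793e4c7a3d79413b783c763a3c777577713a3a763975383d74394637727345733b37707236713543706f6f4238356e5f346d6c326d333331676c326c6a315b6b306a342e692f672d2f686668622d2d672c662b30652c552a636454642e2a616329622852616060512b285a265f275d25275e5c5e3225255d245c23565b242722595a265a54225759215820245756562351202a551f541e1f532152281e514b1c501d4e1b1d4f4d4f3f1b1b4e1a4d19474c1a1d184a4b1c4b4518484a1749161a4847471942163746154514154417433514423c1340413b411c133e40123f11393e3d3d381911133c103b0f103a3639110f380e363710360e350f2f0d33342e34260d31330c320b2c3130302b230b0d2f0a2e090a2d292c0b092b08292a0a29082809222707260607250c242006230521221f2105201e1f1e0805181d041c03041b121a160319021718151702161415140e020112130412011103100f010e000c0d070c000b060a0900080706050004030201) (by decide +kernel)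

private noncomputable def _root_.Cfsg.Agent.KOd533b37.k0 : ((x0 : Prop) → ((@Decidable @x0) → @Bool)) := @(fun (x0 : Prop) (x1 : @Decidable @x0) => @Decidable.rec.{1} @x0 @(fun (x2 : @Decidable @x0) => @Bool) @(fun (x2 : @Not @x0) => @Bool.false) @(fun (x2 : x0) => @Bool.true) @x1)
private theorem _root_.Cfsg.Agent.KOd533b37.e0 : @Decidable.decide = @_root_.Cfsg.Agent.KOd533b37.k0 := by delta _root_.Cfsg.Agent.KOd533b37.k0; rfl'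
private noncomputable def _root_.Cfsg.Agent.KOd533b37.k1 : ((@Int) → ((@Int) → @Int)) := @(fun (x0 : @Int) (x1 : @Int) => @Int.rec.{1} @(fun (x2 : @Int) => @Int) @(fun (x2 : @Nat) => @Int.rec.{1} @(fun (x3 : @Int) => @Int) @(fun (x3 : @Nat) => @Int.ofNat (@Nat.add @x2 @x3)) @(fun (x3 : @Nat) => @Nat.rec.{1} @(fun (x4 : @Nat) => @Int) (@Int.ofNat (@Nat.sub @x2 (@Nat.succ @x3))) @(fun (x4 : @Nat) (x5 : @Int) => @Int.negSucc @x4) (@Nat.sub (@Nat.succ @x3) @x2)) @x1) @(fun (x2 : @Nat) => @Int.rec.{1} @(fun (x3 : @Int) => @Int) @(fun (x3 : @Nat) => @Nat.rec.{1} @(fun (x4 : @Nat) => @Int) (@Int.ofNat (@Nat.sub @x3 (@Nat.succ @x2))) @(fun (x4 : @Nat) (x5 : @Int) => @Int.negSucc @x4) (@Nat.sub (@Nat.succ @x2) @x3)) @(fun (x3 : @Nat) => @Int.negSucc (@Nat.succ (@Nat.add @x2 @x3))) @x1) @x0)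
private theorem _root_.Cfsg.Agent.KOd533b37.e1 : @Int.add = @_root_.Cfsg.Agent.KOd533b37.k1 := by delta _root_.Cfsg.Agent.KOd533b37.k1; rfl'
private noncomputable def _root_.Cfsg.Agent.KOd533b37.k2 : ((@Int) → ((@Int) → @Int)) := @(fun (x0 : @Int) (x1 : @Int) => @Int.rec.{1} @(fun (x2 : @Int) => @Int) @(fun (x2 : @Nat) => @Int.rec.{1} @(fun (x3 : @Int) => @Int) @(fun (x3 : @Nat) => @Int.ofNat (@Nat.mul @x2 @x3)) @(fun (x3 : @Nat) => @Nat.rec.{1} @(fun (x4 : @Nat) => @Int) (@Int.ofNat (nat_lit 0)) @(fun (x4 : @Nat) (x5 : @Int) => @Int.negSucc @x4) (@Nat.mul @x2 (@Nat.succ @x3))) @x1) @(fun (x2 : @Nat) => @Int.rec.{1} @(fun (x3 : @Int) => @Int) @(fun (x3 : @Nat) => @Nat.rec.{1} @(fun (x4 : @Nat) => @Int) (@Int.ofNat (nat_lit 0)) @(fun (x4 : @Nat) (x5 : @Int) => @Int.negSucc @x4) (@Nat.mul (@Nat.succ @x2)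 @x3)) @(fun (x3 : @Nat) => @Int.ofNat (@Nat.mul (@Nat.succ @x2) (@Nat.succ @x3))) @x1) @x0)
private theorem _root_.Cfsg.Agent.KOd533b37.e2 : @Int.mul = @_root_.Cfsg.Agent.KOd533b37.k2 := by delta _root_.Cfsg.Agent.KOd533b37.k2; rfl'
private noncomputable def _root_.Cfsg.Agent.KOd533b37.k3 : (by first | exact type_of% @Cfsg.Agent.KZ.ClD.dt | exact Unit : Sort _) := by first | (refine @Subtype.val _ (fun g => @Cfsg.Agent.KZ.ClD.dt = @g) (@Subtype.mk _ _ (@(fun (x0 : @Cfsg.Agent.KZ.ClD.V4) (x1 : @Cfsg.Agent.KZ.ClD.V4) => @Cfsg.Agent.KOd533b37.k1 (@Cfsg.Agent.KOd533b37.k1 (@Cfsg.Agent.KOd533b37.k1 (@Cfsg.Agent.KOd533b37.k2 (@Prod.fst.{0, 0} @Int (@Prod.{0, 0} @Int (@Prod.{0, 0} @Int @Int)) @x0) (@Prod.fst.{0, 0} @Int (@Prod.{0, 0} @Int (@Prod.{0, 0} @Int @Int)) @x1)) (@Cfsg.Agent.KOd533b37.k2 (@Prod.fst.{0,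 0} @Int (@Prod.{0, 0} @Int @Int) (@Prod.snd.{0, 0} @Int (@Prod.{0, 0} @Int (@Prod.{0, 0} @Int @Int)) @x0)) (@Prod.fst.{0, 0} @Int (@Prod.{0, 0} @Int @Int) (@Prod.snd.{0, 0} @Int (@Prod.{0, 0} @Int (@Prod.{0, 0} @Int @Int)) @x1)))) (@Cfsg.Agent.KOd533b37.k2 (@Prod.fst.{0, 0} @Int @Int (@Prod.snd.{0, 0} @Int (@Prod.{0, 0} @Int @Int) (@Prod.snd.{0, 0} @Int (@Prod.{0, 0} @Int (@Prod.{0, 0} @Int @Int)) @x0))) (@Prod.fst.{0, 0} @Int @Int (@Prod.snd.{0, 0} @Int (@Prod.{0, 0} @Int @Int) (@Prod.snd.{0, 0} @Int (@Prod.{0, 0} @Int (@Prod.{0, 0} @Int @Int)) @x1))))) (@Cfsg.Agent.KOd533b37.k2 (@Prod.snd.{0, 0} @Int @Int (@Prod.snd.{0, 0} @Int (@Prod.{0, 0} @Int @Int) (@Prod.snd.{0, 0} @Int (@Prod.{0, 0} @Int (@Prod.{0, 0} @Int @Int)) @x0))) (@Prod.snd.{0, 0} @Int @Int (@Prod.snd.{0, 0} @Int (@Prod.{0, 0} @Int @Int)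 (@Prod.snd.{0, 0} @Int (@Prod.{0, 0} @Int (@Prod.{0, 0} @Int @Int)) @x1)))))) ?_); rewrite [← Cfsg.Agent.KOd533b37.e1, ← Cfsg.Agent.KOd533b37.e2]; rfl') | exact @Cfsg.Agent.KZ.ClD.dt | exact ()
private theorem _root_.Cfsg.Agent.KOd533b37.e3 : (by first | exact @Cfsg.Agent.KZ.ClD.dt = @_root_.Cfsg.Agent.KOd533b37.k3 | exact True : Prop) := by first | (delta _root_.Cfsg.Agent.KOd533b37.k3; exact @Subtype.property _ (fun g => @Cfsg.Agent.KZ.ClD.dt = @g) _) | rfl | trivial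
private noncomputable def _root_.Cfsg.Agent.KOd533b37.k4 : (by first | exact type_of% @Cfsg.Agent.KZ.ClD.vm | exact Unit : Sort _) := by first | (refine @Subtype.val _ (fun g => @Cfsg.Agent.KZ.ClD.vm = @g) (@Subtype.mk _ _ (@(fun (x0 : @Cfsg.Agent.KZ.ClD.V4) (x1 : @Cfsg.Agent.KZ.ClD.M4) => @Prod.mk.{0, 0} @Int (@Prod.{0, 0} @Int (@Prod.{0, 0} @Int @Int)) (@Cfsg.Agent.KOd533b37.k3 @x0 (@Prod.mk.{0, 0} @Int (@Prod.{0, 0} @Int (@Prod.{0, 0} @Int @Int)) (@Prod.fst.{0, 0} @Int (@Prod.{0, 0} @Int (@Prod.{0, 0} @Int @Int)) (@Prod.fst.{0, 0} @Cfsg.Agent.KZ.ClD.V4 (@Prod.{0, 0} @Cfsg.Agent.KZ.ClD.V4 (@Prod.{0, 0} @Cfsg.Agent.KZ.ClD.V4 @Cfsg.Agent.KZ.ClD.V4)) @x1)) (@Prod.mk.{0, 0} @Int (@Prod.{0, 0} @Int @Int) (@Prod.fst.{0, 0} @Int (@Prod.{0, 0} @Int (@Prod.{0, 0} @Int @Int)) (@Prod.fst.{0, 0} @Cfsg.Agent.KZ.ClD.V4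 (@Prod.{0, 0} @Cfsg.Agent.KZ.ClD.V4 @Cfsg.Agent.KZ.ClD.V4) (@Prod.snd.{0, 0} @Cfsg.Agent.KZ.ClD.V4 (@Prod.{0, 0} @Cfsg.Agent.KZ.ClD.V4 (@Prod.{0, 0} @Cfsg.Agent.KZ.ClD.V4 @Cfsg.Agent.KZ.ClD.V4)) @x1))) (@Prod.mk.{0, 0} @Int @Int (@Prod.fst.{0, 0} @Int (@Prod.{0, 0} @Int (@Prod.{0, 0} @Int @Int)) (@Prod.fst.{0, 0} @Cfsg.Agent.KZ.ClD.V4 @Cfsg.Agent.KZ.ClD.V4 (@Prod.snd.{0, 0} @Cfsg.Agent.KZ.ClD.V4 (@Prod.{0, 0} @Cfsg.Agent.KZ.ClD.V4 @Cfsg.Agent.KZ.ClD.V4) (@Prod.snd.{0, 0} @Cfsg.Agent.KZ.ClD.V4 (@Prod.{0, 0} @Cfsg.Agent.KZ.ClD.V4 (@Prod.{0, 0} @Cfsg.Agent.KZ.ClD.V4 @Cfsg.Agent.KZ.ClD.V4)) @x1)))) (@Prod.fst.{0, 0} @Int (@Prod.{0, 0} @Int (@Prod.{0, 0} @Int @Int)) (@Prod.snd.{0, 0} @Cfsg.Agent.KZ.ClD.V4 @Cfsg.Agent.KZ.ClD.V4 (@Prod.snd.{0, 0} @Cfsg.Agent.KZ.ClD.V4 (@Prod.{0, 0} @Cfsg.Agent.KZ.ClD.V4 @Cfsg.Agent.KZ.ClD.V4)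 (@Prod.snd.{0, 0} @Cfsg.Agent.KZ.ClD.V4 (@Prod.{0, 0} @Cfsg.Agent.KZ.ClD.V4 (@Prod.{0, 0} @Cfsg.Agent.KZ.ClD.V4 @Cfsg.Agent.KZ.ClD.V4)) @x1)))))))) (@Prod.mk.{0, 0} @Int (@Prod.{0, 0} @Int @Int) (@Cfsg.Agent.KOd533b37.k3 @x0 (@Prod.mk.{0, 0} @Int (@Prod.{0, 0} @Int (@Prod.{0, 0} @Int @Int)) (@Prod.fst.{0, 0} @Int (@Prod.{0, 0} @Int @Int) (@Prod.snd.{0, 0} @Int (@Prod.{0, 0} @Int (@Prod.{0, 0} @Int @Int)) (@Prod.fst.{0, 0} @Cfsg.Agent.KZ.ClD.V4 (@Prod.{0, 0} @Cfsg.Agent.KZ.ClD.V4 (@Prod.{0, 0} @Cfsg.Agent.KZ.ClD.V4 @Cfsg.Agent.KZ.ClD.V4)) @x1))) (@Prod.mk.{0, 0} @Int (@Prod.{0, 0} @Int @Int) (@Prod.fst.{0, 0} @Int (@Prod.{0, 0} @Int @Int) (@Prod.snd.{0, 0} @Int (@Prod.{0, 0} @Int (@Prod.{0, 0} @Int @Int)) (@Prod.fst.{0, 0} @Cfsg.Agent.KZ.ClD.V4 (@Prod.{0, 0} @Cfsg.Agent.KZ.ClD.V4 @Cfsg.Agent.KZ.ClD.V4)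 (@Prod.snd.{0, 0} @Cfsg.Agent.KZ.ClD.V4 (@Prod.{0, 0} @Cfsg.Agent.KZ.ClD.V4 (@Prod.{0, 0} @Cfsg.Agent.KZ.ClD.V4 @Cfsg.Agent.KZ.ClD.V4)) @x1)))) (@Prod.mk.{0, 0} @Int @Int (@Prod.fst.{0, 0} @Int (@Prod.{0, 0} @Int @Int) (@Prod.snd.{0, 0} @Int (@Prod.{0, 0} @Int (@Prod.{0, 0} @Int @Int)) (@Prod.fst.{0, 0} @Cfsg.Agent.KZ.ClD.V4 @Cfsg.Agent.KZ.ClD.V4 (@Prod.snd.{0, 0} @Cfsg.Agent.KZ.ClD.V4 (@Prod.{0, 0} @Cfsg.Agent.KZ.ClD.V4 @Cfsg.Agent.KZ.ClD.V4) (@Prod.snd.{0, 0} @Cfsg.Agent.KZ.ClD.V4 (@Prod.{0, 0} @Cfsg.Agent.KZ.ClD.V4 (@Prod.{0, 0} @Cfsg.Agent.KZ.ClD.V4 @Cfsg.Agent.KZ.ClD.V4)) @x1))))) (@Prod.fst.{0, 0} @Int (@Prod.{0, 0} @Int @Int) (@Prod.snd.{0, 0} @Int (@Prod.{0, 0} @Int (@Prod.{0, 0} @Int @Int)) (@Prod.snd.{0, 0} @Cfsg.Agent.KZ.ClD.V4 @Cfsg.Agent.KZ.ClD.V4 (@Prod.snd.{0, 0} @Cfsg.Agent.KZ.ClD.V4 (@Prod.{0,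 0} @Cfsg.Agent.KZ.ClD.V4 @Cfsg.Agent.KZ.ClD.V4) (@Prod.snd.{0, 0} @Cfsg.Agent.KZ.ClD.V4 (@Prod.{0, 0} @Cfsg.Agent.KZ.ClD.V4 (@Prod.{0, 0} @Cfsg.Agent.KZ.ClD.V4 @Cfsg.Agent.KZ.ClD.V4)) @x1))))))))) (@Prod.mk.{0, 0} @Int @Int (@Cfsg.Agent.KOd533b37.k3 @x0 (@Prod.mk.{0, 0} @Int (@Prod.{0, 0} @Int (@Prod.{0, 0} @Int @Int)) (@Prod.fst.{0, 0} @Int @Int (@Prod.snd.{0, 0} @Int (@Prod.{0, 0} @Int @Int) (@Prod.snd.{0, 0} @Int (@Prod.{0, 0} @Int (@Prod.{0, 0} @Int @Int)) (@Prod.fst.{0, 0} @Cfsg.Agent.KZ.ClD.V4 (@Prod.{0, 0} @Cfsg.Agent.KZ.ClD.V4 (@Prod.{0, 0} @Cfsg.Agent.KZ.ClD.V4 @Cfsg.Agent.KZ.ClD.V4)) @x1)))) (@Prod.mk.{0, 0} @Int (@Prod.{0, 0} @Int @Int) (@Prod.fst.{0, 0} @Int @Int (@Prod.snd.{0, 0} @Int (@Prod.{0, 0} @Int @Int) (@Prod.snd.{0, 0} @Int (@Prod.{0, 0} @Int (@Prod.{0, 0} @Int @Int)) (@Prod.fst.{0,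 0} @Cfsg.Agent.KZ.ClD.V4 (@Prod.{0, 0} @Cfsg.Agent.KZ.ClD.V4 @Cfsg.Agent.KZ.ClD.V4) (@Prod.snd.{0, 0} @Cfsg.Agent.KZ.ClD.V4 (@Prod.{0, 0} @Cfsg.Agent.KZ.ClD.V4 (@Prod.{0, 0} @Cfsg.Agent.KZ.ClD.V4 @Cfsg.Agent.KZ.ClD.V4)) @x1))))) (@Prod.mk.{0, 0} @Int @Int (@Prod.fst.{0, 0} @Int @Int (@Prod.snd.{0, 0} @Int (@Prod.{0, 0} @Int @Int) (@Prod.snd.{0, 0} @Int (@Prod.{0, 0} @Int (@Prod.{0, 0} @Int @Int)) (@Prod.fst.{0, 0} @Cfsg.Agent.KZ.ClD.V4 @Cfsg.Agent.KZ.ClD.V4 (@Prod.snd.{0, 0} @Cfsg.Agent.KZ.ClD.V4 (@Prod.{0, 0} @Cfsg.Agent.KZ.ClD.V4 @Cfsg.Agent.KZ.ClD.V4) (@Prod.snd.{0, 0} @Cfsg.Agent.KZ.ClD.V4 (@Prod.{0, 0} @Cfsg.Agent.KZ.ClD.V4 (@Prod.{0, 0} @Cfsg.Agent.KZ.ClD.V4 @Cfsg.Agent.KZ.ClD.V4)) @x1)))))) (@Prod.fst.{0, 0} @Int @Int (@Prod.snd.{0, 0} @Int (@Prod.{0, 0} @Int @Int) (@Prod.snd.{0, 0} @Int (@Prod.{0,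 0} @Int (@Prod.{0, 0} @Int @Int)) (@Prod.snd.{0, 0} @Cfsg.Agent.KZ.ClD.V4 @Cfsg.Agent.KZ.ClD.V4 (@Prod.snd.{0, 0} @Cfsg.Agent.KZ.ClD.V4 (@Prod.{0, 0} @Cfsg.Agent.KZ.ClD.V4 @Cfsg.Agent.KZ.ClD.V4) (@Prod.snd.{0, 0} @Cfsg.Agent.KZ.ClD.V4 (@Prod.{0, 0} @Cfsg.Agent.KZ.ClD.V4 (@Prod.{0, 0} @Cfsg.Agent.KZ.ClD.V4 @Cfsg.Agent.KZ.ClD.V4)) @x1)))))))))) (@Cfsg.Agent.KOd533b37.k3 @x0 (@Prod.mk.{0, 0} @Int (@Prod.{0, 0} @Int (@Prod.{0, 0} @Int @Int)) (@Prod.snd.{0, 0} @Int @Int (@Prod.snd.{0, 0} @Int (@Prod.{0, 0} @Int @Int) (@Prod.snd.{0, 0} @Int (@Prod.{0, 0} @Int (@Prod.{0, 0} @Int @Int)) (@Prod.fst.{0, 0} @Cfsg.Agent.KZ.ClD.V4 (@Prod.{0, 0} @Cfsg.Agent.KZ.ClD.V4 (@Prod.{0, 0} @Cfsg.Agent.KZ.ClD.V4 @Cfsg.Agent.KZ.ClD.V4)) @x1)))) (@Prod.mk.{0, 0} @Int (@Prod.{0, 0} @Int @Int) (@Prod.snd.{0, 0} @Int @Int (@Prod.snd.{0,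 0} @Int (@Prod.{0, 0} @Int @Int) (@Prod.snd.{0, 0} @Int (@Prod.{0, 0} @Int (@Prod.{0, 0} @Int @Int)) (@Prod.fst.{0, 0} @Cfsg.Agent.KZ.ClD.V4 (@Prod.{0, 0} @Cfsg.Agent.KZ.ClD.V4 @Cfsg.Agent.KZ.ClD.V4) (@Prod.snd.{0, 0} @Cfsg.Agent.KZ.ClD.V4 (@Prod.{0, 0} @Cfsg.Agent.KZ.ClD.V4 (@Prod.{0, 0} @Cfsg.Agent.KZ.ClD.V4 @Cfsg.Agent.KZ.ClD.V4)) @x1))))) (@Prod.mk.{0, 0} @Int @Int (@Prod.snd.{0, 0} @Int @Int (@Prod.snd.{0, 0} @Int (@Prod.{0, 0} @Int @Int) (@Prod.snd.{0, 0} @Int (@Prod.{0, 0} @Int (@Prod.{0, 0} @Int @Int)) (@Prod.fst.{0, 0} @Cfsg.Agent.KZ.ClD.V4 @Cfsg.Agent.KZ.ClD.V4 (@Prod.snd.{0, 0} @Cfsg.Agent.KZ.ClD.V4 (@Prod.{0, 0} @Cfsg.Agent.KZ.ClD.V4 @Cfsg.Agent.KZ.ClD.V4) (@Prod.snd.{0, 0} @Cfsg.Agent.KZ.ClD.V4 (@Prod.{0, 0} @Cfsg.Agent.KZ.ClD.V4 (@Prod.{0, 0} @Cfsg.Agent.KZ.ClD.V4 @Cfsg.Agent.KZ.ClD.V4))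 @x1)))))) (@Prod.snd.{0, 0} @Int @Int (@Prod.snd.{0, 0} @Int (@Prod.{0, 0} @Int @Int) (@Prod.snd.{0, 0} @Int (@Prod.{0, 0} @Int (@Prod.{0, 0} @Int @Int)) (@Prod.snd.{0, 0} @Cfsg.Agent.KZ.ClD.V4 @Cfsg.Agent.KZ.ClD.V4 (@Prod.snd.{0, 0} @Cfsg.Agent.KZ.ClD.V4 (@Prod.{0, 0} @Cfsg.Agent.KZ.ClD.V4 @Cfsg.Agent.KZ.ClD.V4) (@Prod.snd.{0, 0} @Cfsg.Agent.KZ.ClD.V4 (@Prod.{0, 0} @Cfsg.Agent.KZ.ClD.V4 (@Prod.{0, 0} @Cfsg.Agent.KZ.ClD.V4 @Cfsg.Agent.KZ.ClD.V4)) @x1)))))))))))))) ?_); rewrite [← Cfsg.Agent.KOd533b37.e3]; (try delta Cfsg.Agent.KZ.ClD.vm); (try generalize @Cfsg.Agent.KZ.ClD.dt = g0); rfl') | exact @Cfsg.Agent.KZ.ClD.vm | exact ()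
private theorem _root_.Cfsg.Agent.KOd533b37.e4 : (by first | exact @Cfsg.Agent.KZ.ClD.vm = @_root_.Cfsg.Agent.KOd533b37.k4 | exact True : Prop) := by first | (delta _root_.Cfsg.Agent.KOd533b37.k4; exact @Subtype.property _ (fun g => @Cfsg.Agent.KZ.ClD.vm = @g) _) | rfl | trivial
private noncomputable def _root_.Cfsg.Agent.KOd533b37.k14.{ku0} : ((x0 : Sort ku0) → ((@Fin (@OfNat.ofNat.{0} @Nat (nat_lit 0) (@instOfNatNat (nat_lit 0)))) → x0)) := @(fun (x0 : Sort ku0) (x1 : @Fin (@OfNat.ofNat.{0} @Nat (nat_lit 0) (@instOfNatNat (nat_lit 0)))) => @Fin.rec.{ku0} (nat_lit 0) @(fun (x2 : @Fin (@OfNat.ofNat.{0} @Nat (nat_lit 0) (@instOfNatNat (nat_lit 0)))) => x0) @(fun (x2 : @Nat) (x3 : @LT.lt.{0} @Nat @instLTNat @x2 (@OfNat.ofNat.{0} @Nat (nat_lit 0) (@instOfNatNat (nat_lit 0)))) => @False.rec.{ku0} @(fun (x4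 : @False) => x0) (@Nat.not_lt_zero @x2 @x3)) @x1)
private theorem _root_.Cfsg.Agent.KOd533b37.e14.{ku0} : @Fin.elim0.{ku0} = @_root_.Cfsg.Agent.KOd533b37.k14.{ku0} := by delta _root_.Cfsg.Agent.KOd533b37.k14; rfl'
private theorem _root_.Cfsg.Agent.KOd533b37.e16.{ku, kv} {α : Type kv} {M : List α → Sort ku} (φ : ∀ l, M l) {z : M List.nil} {s : ∀ a l, M l → M (List.cons a l)} (h0 : φ List.nil = z) (hs : ∀ a l, φ (List.cons a l) = s a l (φ l)) (l : List α) : φ l = @List.rec α M z s l := List.rec h0 (fun a l ih => (hs a l).trans (congrArg (s a l) ih)) l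
private noncomputable def _root_.Cfsg.Agent.KOd533b37.k18l (n : Nat) (P : ∀ k, k < n → Prop) (H : ∀ k h, Decidable (P k h)) (m : Nat) : m ≤ n → Bool := @Nat.rec (fun m => m ≤ n → Bool) (fun _ => true) (fun k ih h => @Decidable.rec (P k h) (fun _ => Bool) (fun _ => false) (fun _ => ih (Nat.le_of_succ_le h)) (H k h)) m
private theorem _root_.Cfsg.Agent.KOd533b37.k18ls (n : Nat) (P : ∀ k, k < n → Prop) (H : ∀ k h, Decidable (P k h)) (m : Nat) : ∀ h : m ≤ n, _root_.Cfsg.Agent.KOd533b37.k18l n P H m h = true ↔ ∀ k (g : k < m), P k (Nat.lt_of_lt_of_le g h) := by induction m with | zero => exact fun _ => ⟨fun _ _ g => absurd g (Nat.not_lt_zero _), fun _ => rfl⟩ | succ m ih => intro h; show @Decidable.rec (P m h) (fun _ => Bool) (fun _ => false) (fun _ => _root_.Cfsg.Agent.KOd533b37.k18l n P H m (Nat.le_of_succ_le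 h)) (H m h) = true ↔ _; cases H m h with | isFalse q => exact ⟨fun g => absurd g Bool.false_ne_true, fun g => absurd (g m (Nat.lt_succ_self m)) q⟩ | isTrue q => exact ⟨fun g k hk => (Nat.lt_succ_iff_lt_or_eq.1 hk).elim ((ih _).1 g k) fun e => by subst e; exact q, fun g => (ih _).2 fun k hk => g k (Nat.lt_succ_of_lt hk)⟩
private noncomputable def _root_.Cfsg.Agent.KOd533b37.k18 (n : Nat) (P : ∀ k, k < n → Prop) (H : ∀ k h, Decidable (P k h)) : Decidable (∀ k h, P k h) := @Bool.rec (fun b => _root_.Cfsg.Agent.KOd533b37.k18l n P H n (Nat.le_refl n) = b → Decidable (∀ k h, P k h)) (fun g => isFalse fun q => Bool.false_ne_true (g.symm.trans ((_root_.Cfsg.Agent.KOd533b37.k18ls n P H n _).2 fun k h => q k h))) (fun g => isTrue fun k h => (_root_.Cfsg.Agent.KOd533b37.k18ls n P H n _).1 g k h) (_root_.Cfsg.Agent.KOd533b37.k18l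 n P H n (Nat.le_refl n)) rfl
private theorem _root_.Cfsg.Agent.KOd533b37.e18 : @Nat.decidableBallLT = @_root_.Cfsg.Agent.KOd533b37.k18 := funext fun _ => funext fun _ => funext fun _ => Subsingleton.elim _ _
private noncomputable def _root_.Cfsg.Agent.KOd533b37.k19 : ((x0 : @Nat) → ((x1 : ((@Fin @x0) → Prop)) → ((@DecidablePred.{1} (@Fin @x0) @x1) → @Decidable ((x3 : @Fin @x0) → @x1 @x3)))) := @(fun (x0 : @Nat) (x1 : ((@Fin @x0) → Prop)) (x2 : @DecidablePred.{1} (@Fin @x0) @x1) => @Decidable.rec.{1} ((x3 : @Nat) → ((x4 : @LT.lt.{0} @Nat @instLTNat @x3 @x0) → @x1 (@Fin.mk @x0 @x3 @x4))) @(fun (x3 : @Decidable ((x3 : @Nat) → ((x4 : @LT.lt.{0} @Nat @instLTNat @x3 @x0) → @x1 (@Fin.mk @x0 @x3 @x4)))) => @Decidable ((x4 : @Fin @x0) → @x1 @x4)) @(fun (x3 : @Not ((x3 : @Nat) → ((x4 : @LT.lt.{0} @Nat @instLTNat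 @x3 @x0) → @x1 (@Fin.mk @x0 @x3 @x4)))) => @Decidable.isFalse ((x4 : @Fin @x0) → @x1 @x4) (@decidable_of_decidable_of_iff._proof_1 ((x4 : @Nat) → ((x5 : @LT.lt.{0} @Nat @instLTNat @x4 @x0) → @x1 (@Fin.mk @x0 @x4 @x5))) ((x4 : @Fin @x0) → @x1 @x4) (@Nat.decidableForallFin._proof_1 @x0 @x1) @x3)) @(fun (x3 : ((x3 : @Nat) → ((x4 : @LT.lt.{0} @Nat @instLTNat @x3 @x0) → @x1 (@Fin.mk @x0 @x3 @x4)))) => @Decidable.isTrue ((x4 : @Fin @x0) → @x1 @x4) (@Iff.mp ((x4 : @Nat) → ((x5 : @LT.lt.{0} @Nat @instLTNat @x4 @x0) → @x1 (@Fin.mk @x0 @x4 @x5))) ((x4 : @Fin @x0) → @x1 @x4) (@Nat.decidableForallFin._proof_1 @x0 @x1) @x3)) (@Cfsg.Agent.KOd533b37.k18 @x0 @(fun (x3 : @Nat) (x4 : @LT.lt.{0} @Nat @instLTNat @x3 @x0) => @x1 (@Fin.mk @x0 @x3 @x4)) @(fun (x3 : @Nat) (x4 : @LT.lt.{0} @Nat @instLTNat @x3 @x0) => @x2 (@Fin.mk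 @x0 @x3 @x4))))
private theorem _root_.Cfsg.Agent.KOd533b37.e19 : @Nat.decidableForallFin = @_root_.Cfsg.Agent.KOd533b37.k19 := by delta _root_.Cfsg.Agent.KOd533b37.k19; rewrite [← Cfsg.Agent.KOd533b37.e18]; rfl'
private noncomputable def _root_.Cfsg.Agent.KOd533b37.k24 : ((x0 : @Nat) → ((x1 : @Nat) → @Decidable (@Eq.{1} @Nat @x0 @x1))) := @(fun (x0 : @Nat) (x1 : @Nat) => @Bool.rec.{1} @(fun (x2 : @Bool) => ((@Eq.{1} @Bool (@Nat.beq @x0 @x1) @x2) → @Decidable (@Eq.{1} @Nat @x0 @x1))) @(fun (x2 : @Eq.{1} @Bool (@Nat.beq @x0 @x1) @Bool.false) => @Decidable.isFalse (@Eq.{1} @Nat @x0 @x1) (@Nat.ne_of_beq_eq_false @x0 @x1 @x2)) @(fun (x2 : @Eq.{1} @Bool (@Nat.beq @x0 @x1) @Bool.true) => @Decidable.isTrue (@Eq.{1} @Nat @x0 @x1) (@Nat.eq_of_beq_eq_true @x0 @x1 @x2)) (@Nat.beq @x0 @x1) (@Eq.refl.{1} @Bool (@Nat.beq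 @x0 @x1)))
private theorem _root_.Cfsg.Agent.KOd533b37.e24 : @Nat.decEq = @_root_.Cfsg.Agent.KOd533b37.k24 := by delta _root_.Cfsg.Agent.KOd533b37.k24; rfl'
private noncomputable def _root_.Cfsg.Agent.KOd533b37.k27.{ku0} : ((x0 : Sort (ku0+1)) → ((@List.{ku0} @x0) → @Nat)) := @(fun (x0 : Sort (ku0+1)) (x1 : @List.{ku0} @x0) => @List.rec.{1, ku0} @x0 @(fun (x2 : @List.{ku0} @x0) => @Nat) (nat_lit 0) @(fun (x2 : x0) (x3 : @List.{ku0} @x0) (x4 : @Nat) => @Nat.add @x4 (nat_lit 1)) @x1)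
private theorem _root_.Cfsg.Agent.KOd533b37.e27.{ku0} : @List.length.{ku0} = @_root_.Cfsg.Agent.KOd533b37.k27.{ku0} := by delta _root_.Cfsg.Agent.KOd533b37.k27; funext a0 a1; refine (_root_.Cfsg.Agent.KOd533b37.e16 (fun a1 => @List.length.{ku0} a0 a1) ?_ (fun c0 c1 => ?_) a1 :) <;> (rfl')
private noncomputable def _root_.Cfsg.Agent.KOd533b37.k28.{ku0} : ((x0 : Sort (ku0+1)) → ((x0 → @Bool) → ((@List.{ku0} @x0) → @List.{ku0} @x0))) := @(fun (x0 : Sort (ku0+1)) (x1 : (x0 → @Bool)) (x2 : @List.{ku0} @x0) => @List.rec.{(ku0+1), ku0} @x0 @(fun (x3 : @List.{ku0} @x0) => @List.{ku0} @x0) (@List.nil.{ku0} @x0) @(fun (x3 : x0) (x4 : @List.{ku0} @x0) (x5 : @List.{ku0} @x0) => @Bool.rec.{(ku0+1)} @(fun (x6 : @Bool) => @List.{ku0} @x0) @x5 (@List.cons.{ku0} @x0 @x3 @x5) (@x1 @x3)) @x2)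
private theorem _root_.Cfsg.Agent.KOd533b37.e28.{ku0} : @List.filter.{ku0} = @_root_.Cfsg.Agent.KOd533b37.k28.{ku0} := by delta _root_.Cfsg.Agent.KOd533b37.k28; funext a0 a1 a2; refine (_root_.Cfsg.Agent.KOd533b37.e16 (fun a2 => @List.filter.{ku0} a0 a1 a2) ?_ (fun c0 c1 => ?_) a2 :) <;> (rfl')
private noncomputable def _root_.Cfsg.Agent.KOd533b37.k30 : (by first | exact type_of% @Cfsg.Agent.KZ.ClD.fx | exact Unit : Sort _) := by first | (refine @Subtype.val _ (fun g => @Cfsg.Agent.KZ.ClD.fx = @g) (@Subtype.mk _ _ (@(fun (x0 : @Cfsg.Agent.KZ.ClD.V4) (x1 : @Cfsg.Agent.KZ.ClD.M4) => @Cfsg.Agent.KZ.ClD.e3 (@Cfsg.Agent.KOd533b37.k4 @x0 @x1) @x0)) ?_); rewrite [← Cfsg.Agent.KOd533b37.e4]; (try delta Cfsg.Agent.KZ.ClD.fx); (try generalize @Cfsg.Agent.KZ.ClD.e3 = g0); (try generalize @Cfsg.Agent.KZ.ClD.vm = g1);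 rfl') | exact @Cfsg.Agent.KZ.ClD.fx | exact ()
private theorem _root_.Cfsg.Agent.KOd533b37.e30 : (by first | exact @Cfsg.Agent.KZ.ClD.fx = @_root_.Cfsg.Agent.KOd533b37.k30 | exact True : Prop) := by first | (delta _root_.Cfsg.Agent.KOd533b37.k30; exact @Subtype.property _ (fun g => @Cfsg.Agent.KZ.ClD.fx = @g) _) | rfl | trivial
private noncomputable def _root_.Cfsg.Agent.KOd533b37.k31 : (by first | exact type_of% @Cfsg.Agent.KZ.ClD.xs | exact Unit : Sort _) := by first | (refine @Subtype.val _ (fun g => @Cfsg.Agent.KZ.ClD.xs = @g) (@Subtype.mk _ _ (@Fin.cons.{1} (nat_lit 4) @(fun (x0 : @Fin (@Nat.succ (@OfNat.ofNat.{0} @Nat (nat_lit 4) (@instOfNatNat (nat_lit 4))))) => @Cfsg.Agent.KZ.ClD.V4) (@Prod.mk.{0, 0} @Int (@Prod.{0, 0} @Int (@Prod.{0, 0} @Int @Int)) (@Int.ofNat (nat_lit 0)) (@Prod.mk.{0, 0} @Int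 (@Prod.{0, 0} @Int @Int) (@Int.ofNat (nat_lit 0)) (@Prod.mk.{0, 0} @Int @Int (@Int.ofNat (nat_lit 0)) (@Int.ofNat (nat_lit 0))))) (@Fin.cons.{1} (nat_lit 3) @(fun (x0 : @Fin (@Nat.succ (@OfNat.ofNat.{0} @Nat (nat_lit 3) (@instOfNatNat (nat_lit 3))))) => @Cfsg.Agent.KZ.ClD.V4) (@Prod.mk.{0, 0} @Int (@Prod.{0, 0} @Int (@Prod.{0, 0} @Int @Int)) (@Int.ofNat (nat_lit 2)) (@Prod.mk.{0, 0} @Int (@Prod.{0, 0} @Int @Int) (@Int.ofNat (nat_lit 4)) (@Prod.mk.{0, 0} @Int @Int (@Int.ofNat (nat_lit 3)) (@Int.ofNat (nat_lit 3))))) (@Fin.cons.{1} (nat_lit 2) @(fun (x0 : @Fin (@Nat.succ (@OfNat.ofNat.{0} @Nat (nat_lit 2) (@instOfNatNat (nat_lit 2))))) => @Cfsg.Agent.KZ.ClD.V4) (@Prod.mk.{0, 0} @Int (@Prod.{0, 0} @Int (@Prod.{0, 0} @Int @Int)) (@Int.ofNat (nat_lit 1)) (@Prod.mk.{0, 0} @Int (@Prod.{0, 0} @Int @Int) (@Int.ofNat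 (nat_lit 2)) (@Prod.mk.{0, 0} @Int @Int (@Int.ofNat (nat_lit 1)) (@Int.ofNat (nat_lit 2))))) (@Fin.cons.{1} (nat_lit 1) @(fun (x0 : @Fin (@Nat.succ (@OfNat.ofNat.{0} @Nat (nat_lit 1) (@instOfNatNat (nat_lit 1))))) => @Cfsg.Agent.KZ.ClD.V4) (@Prod.mk.{0, 0} @Int (@Prod.{0, 0} @Int (@Prod.{0, 0} @Int @Int)) (@Int.ofNat (nat_lit 1)) (@Prod.mk.{0, 0} @Int (@Prod.{0, 0} @Int @Int) (@Int.ofNat (nat_lit 2)) (@Prod.mk.{0, 0} @Int @Int (@Int.ofNat (nat_lit 2)) (@Int.ofNat (nat_lit 1))))) (@Fin.cons.{1} (nat_lit 0) @(fun (x0 : @Fin (@Nat.succ (@OfNat.ofNat.{0} @Nat (nat_lit 0) (@instOfNatNat (nat_lit 0))))) => @Cfsg.Agent.KZ.ClD.V4) (@Prod.mk.{0, 0} @Int (@Prod.{0, 0} @Int (@Prod.{0, 0} @Int @Int)) (@Int.ofNat (nat_lit 2)) (@Prod.mk.{0, 0} @Int (@Prod.{0, 0} @Int @Int) (@Int.ofNat (nat_lit 2)) (@Prod.mk.{0, 0} @Int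 @Int (@Int.ofNat (nat_lit 1)) (@Int.ofNat (nat_lit 1))))) (@Cfsg.Agent.KOd533b37.k14.{1} @Cfsg.Agent.KZ.ClD.V4)))))) ?_); rewrite [← Cfsg.Agent.KOd533b37.e14.{1}]; rfl') | exact @Cfsg.Agent.KZ.ClD.xs | exact ()
private theorem _root_.Cfsg.Agent.KOd533b37.e31 : (by first | exact @Cfsg.Agent.KZ.ClD.xs = @_root_.Cfsg.Agent.KOd533b37.k31 | exact True : Prop) := by first | (delta _root_.Cfsg.Agent.KOd533b37.k31; exact @Subtype.property _ (fun g => @Cfsg.Agent.KZ.ClD.xs = @g) _) | rfl | trivial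
private noncomputable def _root_.Cfsg.Agent.KOd533b37.k32 : (by first | exact type_of% @Cfsg.Agent.KZ.ClD.LS | exact Unit : Sort _) := by first | (refine @Subtype.val _ (fun g => @Cfsg.Agent.KZ.ClD.LS = @g) (@Subtype.mk _ _ (@(fun (x0 : @Fin (@OfNat.ofNat.{0} @Nat (nat_lit 5) (@instOfNatNat (nat_lit 5)))) => @Cfsg.Agent.KOd533b37.k28.{0} @Cfsg.Agent.KZ.ClD.M4 (@Cfsg.Agent.KOd533b37.k30 (@Cfsg.Agent.KOd533b37.k31 @x0)) @Cfsg.Agent.KZ.ClD.LW)) ?_); rewrite [← Cfsg.Agent.KOd533b37.e28.{0}, ← Cfsg.Agent.KOd533b37.e30, ← Cfsg.Agent.KOd533b37.e31]; (try delta Cfsg.Agent.KZ.ClD.LS); (try generalize @Cfsg.Agent.KZ.ClD.fx = g0); (try generalize @Cfsg.Agent.KZ.ClD.xs = g1); (try generalize @Cfsg.Agent.KZ.ClD.LW = g2); rfl') | exact @Cfsg.Agent.KZ.ClD.LS | exact ()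
private theorem _root_.Cfsg.Agent.KOd533b37.e32 : (by first | exact @Cfsg.Agent.KZ.ClD.LS = @_root_.Cfsg.Agent.KOd533b37.k32 | exact True : Prop) := by first | (delta _root_.Cfsg.Agent.KOd533b37.k32; exact @Subtype.property _ (fun g => @Cfsg.Agent.KZ.ClD.LS = @g) _) | rfl | trivial
private noncomputable def _root_.Cfsg.Agent.KOd533b37.k33.{ku0} : ((x0 : Sort (ku0+1)) → ((@Fin (@OfNat.ofNat.{0} @Nat (nat_lit 0) (@instOfNatNat (nat_lit 0)))) → x0)) := @(fun (x0 : Sort (ku0+1)) => @Cfsg.Agent.KOd533b37.k14.{(ku0+1)} @x0)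
private theorem _root_.Cfsg.Agent.KOd533b37.e33.{ku0} : @Matrix.vecEmpty.{ku0} = @_root_.Cfsg.Agent.KOd533b37.k33.{ku0} := by delta _root_.Cfsg.Agent.KOd533b37.k33; rewrite [← Cfsg.Agent.KOd533b37.e14.{(ku0+1)}]; rfl'
private noncomputable def _root_.Cfsg.Agent.KOd533b37.k34 : @DecidableEq.{1} @Nat := @Cfsg.Agent.KOd533b37.k24
private theorem _root_.Cfsg.Agent.KOd533b37.e34 : @instDecidableEqNat = @_root_.Cfsg.Agent.KOd533b37.k34 := by delta _root_.Cfsg.Agent.KOd533b37.k34; rewrite [← Cfsg.Agent.KOd533b37.e24]; rfl'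

theorem len_LS : ∀ t, (LS t).length = ![192, 6, 24, 24, 24] t := by (first | (refine of_decide_eq_true ?_; rewrite [Cfsg.Agent.KOd533b37.e0, Cfsg.Agent.KOd533b37.e27.{0}, Cfsg.Agent.KOd533b37.e32, Cfsg.Agent.KOd533b37.e33.{0}, Cfsg.Agent.KOd533b37.e19, Cfsg.Agent.KOd533b37.e34]; decide +kernel) | decide +kernel)

private noncomputable def _root_.Cfsg.Agent.KOd533b37.k17.{ku0} : ((x0 : Sort (ku0+1)) → ((x1 : (x0 → Prop)) → ((@DecidablePred.{(ku0+1)} @x0 @x1) → ((x3 : @List.{ku0} @x0) → @Decidable ((x4 : x0) → ((@Membership.mem.{ku0, ku0} @x0 (@List.{ku0} @x0) (@List.instMembership.{ku0} @x0) @x3 @x4) → @x1 @x4)))))) := @(fun (x0 : Sort (ku0+1)) (x1 : (x0 → Prop)) (x2 : @DecidablePred.{(ku0+1)} @x0 @x1) (x3 : @List.{ku0} @x0) => @List.rec.{1, ku0} @x0 @(fun (x4 : @List.{ku0} @x0) => @Decidable ((x5 : x0)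 → ((@Membership.mem.{ku0, ku0} @x0 (@List.{ku0} @x0) (@List.instMembership.{ku0} @x0) @x4 @x5) → @x1 @x5))) (@Decidable.isTrue ((x4 : x0) → ((@Membership.mem.{ku0, ku0} @x0 (@List.{ku0} @x0) (@List.instMembership.{ku0} @x0) (@List.nil.{ku0} @x0) @x4) → @x1 @x4)) (@List.decidableBAll._proof_1.{ku0} @x0 @x1)) @(fun (x4 : x0) (x5 : @List.{ku0} @x0) (x6 : @Decidable ((x6 : x0) → ((@Membership.mem.{ku0, ku0} @x0 (@List.{ku0} @x0) (@List.instMembership.{ku0} @x0) @x5 @x6) → @x1 @x6))) => @Decidable.rec.{1} (@x1 @x4) @(fun (x7 : @Decidable (@x1 @x4)) => @Decidable ((x8 : x0) → ((@Membership.mem.{ku0, ku0} @x0 (@List.{ku0} @x0) (@List.instMembership.{ku0} @x0) (@List.cons.{ku0} @x0 @x4 @x5) @x8) → @x1 @x8))) @(fun (x7 : @Not (@x1 @x4)) => @Decidable.isFalse ((x8 : x0) → ((@Membership.mem.{ku0, ku0} @x0 (@List.{ku0}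 @x0) (@List.instMembership.{ku0} @x0) (@List.cons.{ku0} @x0 @x4 @x5) @x8) → @x1 @x8)) (@List.decidableBAll._proof_4.{ku0} @x0 @x1 @x4 @x5 @x7)) @(fun (x7 : @x1 @x4) => @Decidable.rec.{1} ((x8 : x0) → ((@Membership.mem.{ku0, ku0} @x0 (@List.{ku0} @x0) (@List.instMembership.{ku0} @x0) @x5 @x8) → @x1 @x8)) @(fun (x8 : @Decidable ((x8 : x0) → ((@Membership.mem.{ku0, ku0} @x0 (@List.{ku0} @x0) (@List.instMembership.{ku0} @x0) @x5 @x8) → @x1 @x8))) => @Decidable ((x9 : x0) → ((@Membership.mem.{ku0, ku0} @x0 (@List.{ku0} @x0) (@List.instMembership.{ku0} @x0) (@List.cons.{ku0} @x0 @x4 @x5) @x9) → @x1 @x9))) @(fun (x8 : @Not ((x8 : x0) → ((@Membership.mem.{ku0, ku0} @x0 (@List.{ku0} @x0) (@List.instMembership.{ku0} @x0) @x5 @x8) → @x1 @x8))) => @Decidable.isFalse ((x9 : x0) → ((@Membership.mem.{ku0, ku0} @x0 (@List.{ku0}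 @x0) (@List.instMembership.{ku0} @x0) (@List.cons.{ku0} @x0 @x4 @x5) @x9) → @x1 @x9)) (@List.decidableBAll._proof_3.{ku0} @x0 @x1 @x4 @x5 @x8)) @(fun (x8 : ((x8 : x0) → ((@Membership.mem.{ku0, ku0} @x0 (@List.{ku0} @x0) (@List.instMembership.{ku0} @x0) @x5 @x8) → @x1 @x8))) => @Decidable.isTrue ((x9 : x0) → ((@Membership.mem.{ku0, ku0} @x0 (@List.{ku0} @x0) (@List.instMembership.{ku0} @x0) (@List.cons.{ku0} @x0 @x4 @x5) @x9) → @x1 @x9)) (@List.decidableBAll._proof_2.{ku0} @x0 @x1 @x4 @x5 @x7 @x8)) @x6) (@x2 @x4)) @x3)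
private theorem _root_.Cfsg.Agent.KOd533b37.e17.{ku0} : @List.decidableBAll.{ku0} = @_root_.Cfsg.Agent.KOd533b37.k17.{ku0} := by delta _root_.Cfsg.Agent.KOd533b37.k17; funext a0 a1 a2 a3; refine (_root_.Cfsg.Agent.KOd533b37.e16 (fun a3 => @List.decidableBAll.{ku0} a0 a1 a2 a3) ?_ (fun c0 c1 => ?_) a3 :) <;> (rfl')
private noncomputable def _root_.Cfsg.Agent.KOd533b37.k21.{ku0} : ((x0 : Sort ku0) → ((x1 : @Bool) → ((x2 : @Bool) → ((@Eq.{1} @Bool @x1 @x2) → @Bool.noConfusionType.{ku0} @x0 @x1 @x2)))) := @(fun (x0 : Sort ku0) (x1 : @Bool) (x2 : @Bool) (x3 : @Eq.{1} @Bool @x1 @x2) => @Eq.rec.{ku0, 1} @Bool @x1 @(fun (x4 : @Bool) (x5 : @Eq.{1} @Bool @x1 @x4) => @Bool.noConfusionType.{ku0} @x0 @x1 @x4) (@Bool.rec.{ku0} @(fun (x4 : @Bool) => @Bool.noConfusionType.{ku0} @x0 @x4 @x4) @(fun (x4 : x0) => x4) @(fun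 (x4 : x0) => x4) @x1) @x2 @x3)
private theorem _root_.Cfsg.Agent.KOd533b37.e21.{ku0} : @Bool.noConfusion.{ku0} = @_root_.Cfsg.Agent.KOd533b37.k21.{ku0} := by delta _root_.Cfsg.Agent.KOd533b37.k21; rfl'
private noncomputable def _root_.Cfsg.Agent.KOd533b37.k22 : ((x0 : @Bool) → ((x1 : @Bool) → @Decidable (@Eq.{1} @Bool @x0 @x1))) := @(fun (x0 : @Bool) (x1 : @Bool) => @Bool.rec.{1} @(fun (x2 : @Bool) => @Decidable (@Eq.{1} @Bool @x2 @x1)) (@Bool.rec.{1} @(fun (x2 : @Bool) => @Decidable (@Eq.{1} @Bool @Bool.false @x2)) (@Decidable.isTrue (@Eq.{1} @Bool @Bool.false @Bool.false) (@rfl.{1} @Bool @Bool.false)) (@Decidable.isFalse (@Eq.{1} @Bool @Bool.false @Bool.true) @(fun (x2 : @Eq.{1} @Bool @Bool.false @Bool.true) => @Cfsg.Agent.KOd533b37.k21.{0} @False @Bool.false @Bool.true @x2)) @x1) (@Bool.rec.{1} @(fun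 (x2 : @Bool) => @Decidable (@Eq.{1} @Bool @Bool.true @x2)) (@Decidable.isFalse (@Eq.{1} @Bool @Bool.true @Bool.false) @(fun (x2 : @Eq.{1} @Bool @Bool.true @Bool.false) => @Cfsg.Agent.KOd533b37.k21.{0} @False @Bool.true @Bool.false @x2)) (@Decidable.isTrue (@Eq.{1} @Bool @Bool.true @Bool.true) (@rfl.{1} @Bool @Bool.true)) @x1) @x0)
private theorem _root_.Cfsg.Agent.KOd533b37.e22 : @Bool.decEq = @_root_.Cfsg.Agent.KOd533b37.k22 := by delta _root_.Cfsg.Agent.KOd533b37.k22; rewrite [← Cfsg.Agent.KOd533b37.e21.{0}]; rfl'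
private noncomputable def _root_.Cfsg.Agent.KOd533b37.k25 : ((x0 : @Int) → ((x1 : @Int) → @Decidable (@Eq.{1} @Int @x0 @x1))) := @(fun (x0 : @Int) (x1 : @Int) => @Int.rec.{1} @(fun (x2 : @Int) => @Decidable (@Eq.{1} @Int @x2 @x1)) @(fun (x2 : @Nat) => @Int.rec.{1} @(fun (x3 : @Int) => @Decidable (@Eq.{1} @Int (@Int.ofNat @x2) @x3)) @(fun (x3 : @Nat) => @Decidable.rec.{1} (@Eq.{1} @Nat @x2 @x3) @(fun (x4 : @Decidable (@Eq.{1} @Nat @x2 @x3)) => @Decidable (@Eq.{1} @Int (@Int.ofNat @x2) (@Int.ofNat @x3))) @(fun (x4 : @Not (@Eq.{1} @Nat @x2 @x3)) => @Decidable.isFalse (@Eq.{1} @Int (@Int.ofNat @x2) (@Int.ofNat @x3)) (@Int.decEq._proof_2 @x2 @x3 @x4)) @(fun (x4 : @Eq.{1} @Nat @x2 @x3) => @Decidable.isTrue (@Eq.{1} @Int (@Int.ofNat @x2) (@Int.ofNat @x3)) (@Int.decEq._proof_1 @x2 @x3 @x4)) (@Cfsg.Agent.KOd533b37.k24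 @x2 @x3)) @(fun (x3 : @Nat) => @Decidable.isFalse (@Eq.{1} @Int (@Int.ofNat @x2) (@Int.negSucc @x3)) (@Int.decEq._proof_3 @x2 @x3)) @x1) @(fun (x2 : @Nat) => @Int.rec.{1} @(fun (x3 : @Int) => @Decidable (@Eq.{1} @Int (@Int.negSucc @x2) @x3)) @(fun (x3 : @Nat) => @Decidable.isFalse (@Eq.{1} @Int (@Int.negSucc @x2) (@Int.ofNat @x3)) (@Int.decEq._proof_4 @x2 @x3)) @(fun (x3 : @Nat) => @Decidable.rec.{1} (@Eq.{1} @Nat @x2 @x3) @(fun (x4 : @Decidable (@Eq.{1} @Nat @x2 @x3)) => @Decidable (@Eq.{1} @Int (@Int.negSucc @x2) (@Int.negSucc @x3))) @(fun (x4 : @Not (@Eq.{1} @Nat @x2 @x3)) => @Decidable.isFalse (@Eq.{1} @Int (@Int.negSucc @x2) (@Int.negSucc @x3)) (@Int.decEq._proof_6 @x2 @x3 @x4)) @(fun (x4 : @Eq.{1} @Nat @x2 @x3) => @Decidable.isTrue (@Eq.{1} @Int (@Int.negSucc @x2) (@Int.negSucc @x3)) (@Int.decEq._proof_5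 @x2 @x3 @x4)) (@Cfsg.Agent.KOd533b37.k24 @x2 @x3)) @x1) @x0)
private theorem _root_.Cfsg.Agent.KOd533b37.e25 : @Int.decEq = @_root_.Cfsg.Agent.KOd533b37.k25 := by delta _root_.Cfsg.Agent.KOd533b37.k25; rewrite [← Cfsg.Agent.KOd533b37.e24]; rfl'
private noncomputable def _root_.Cfsg.Agent.KOd533b37.k26 : @DecidableEq.{1} @Int := @Cfsg.Agent.KOd533b37.k25
private theorem _root_.Cfsg.Agent.KOd533b37.e26 : @Int.instDecidableEq = @_root_.Cfsg.Agent.KOd533b37.k26 := by delta _root_.Cfsg.Agent.KOd533b37.k26; rewrite [← Cfsg.Agent.KOd533b37.e25]; rfl'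
private noncomputable def _root_.Cfsg.Agent.KOd533b37.k35 : (by first | exact type_of% @Cfsg.Agent.KZ.ClD.mv | exact Unit : Sort _) := by first | (refine @Subtype.val _ (fun g => @Cfsg.Agent.KZ.ClD.mv = @g) (@Subtype.mk _ _ (@(fun (x0 : @Cfsg.Agent.KZ.ClD.M4) (x1 : @Cfsg.Agent.KZ.ClD.V4) => @Prod.mk.{0, 0} @Int (@Prod.{0, 0} @Int (@Prod.{0, 0} @Int @Int)) (@Cfsg.Agent.KOd533b37.k3 (@Prod.fst.{0, 0} @Cfsg.Agent.KZ.ClD.V4 (@Prod.{0, 0} @Cfsg.Agent.KZ.ClD.V4 (@Prod.{0, 0} @Cfsg.Agent.KZ.ClD.V4 @Cfsg.Agent.KZ.ClD.V4)) @x0) @x1) (@Prod.mk.{0, 0} @Int (@Prod.{0, 0} @Int @Int) (@Cfsg.Agent.KOd533b37.k3 (@Prod.fst.{0, 0} @Cfsg.Agent.KZ.ClD.V4 (@Prod.{0, 0} @Cfsg.Agent.KZ.ClD.V4 @Cfsg.Agent.KZ.ClD.V4) (@Prod.snd.{0, 0} @Cfsg.Agent.KZ.ClD.V4 (@Prod.{0, 0} @Cfsg.Agent.KZ.ClD.V4 (@Prod.{0, 0} @Cfsg.Agent.KZ.ClD.V4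 @Cfsg.Agent.KZ.ClD.V4)) @x0)) @x1) (@Prod.mk.{0, 0} @Int @Int (@Cfsg.Agent.KOd533b37.k3 (@Prod.fst.{0, 0} @Cfsg.Agent.KZ.ClD.V4 @Cfsg.Agent.KZ.ClD.V4 (@Prod.snd.{0, 0} @Cfsg.Agent.KZ.ClD.V4 (@Prod.{0, 0} @Cfsg.Agent.KZ.ClD.V4 @Cfsg.Agent.KZ.ClD.V4) (@Prod.snd.{0, 0} @Cfsg.Agent.KZ.ClD.V4 (@Prod.{0, 0} @Cfsg.Agent.KZ.ClD.V4 (@Prod.{0, 0} @Cfsg.Agent.KZ.ClD.V4 @Cfsg.Agent.KZ.ClD.V4)) @x0))) @x1) (@Cfsg.Agent.KOd533b37.k3 (@Prod.snd.{0, 0} @Cfsg.Agent.KZ.ClD.V4 @Cfsg.Agent.KZ.ClD.V4 (@Prod.snd.{0, 0} @Cfsg.Agent.KZ.ClD.V4 (@Prod.{0, 0} @Cfsg.Agent.KZ.ClD.V4 @Cfsg.Agent.KZ.ClD.V4) (@Prod.snd.{0, 0} @Cfsg.Agent.KZ.ClD.V4 (@Prod.{0, 0} @Cfsg.Agent.KZ.ClD.V4 (@Prod.{0, 0} @Cfsg.Agent.KZ.ClD.V4 @Cfsg.Agent.KZ.ClD.V4)) @x0))) @x1))))) ?_); rewrite [← Cfsg.Agent.KOd533b37.e3]; (try delta Cfsg.Agent.KZ.ClD.mv); (try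 generalize @Cfsg.Agent.KZ.ClD.dt = g0); rfl') | exact @Cfsg.Agent.KZ.ClD.mv | exact ()
private theorem _root_.Cfsg.Agent.KOd533b37.e35 : (by first | exact @Cfsg.Agent.KZ.ClD.mv = @_root_.Cfsg.Agent.KOd533b37.k35 | exact True : Prop) := by first | (delta _root_.Cfsg.Agent.KOd533b37.k35; exact @Subtype.property _ (fun g => @Cfsg.Agent.KZ.ClD.mv = @g) _) | rfl | trivial
private noncomputable def _root_.Cfsg.Agent.KOd533b37.k36 : (by first | exact type_of% @Cfsg.Agent.KZ.ClD.ls | exact Unit : Sort _) := by first | (refine @Subtype.val _ (fun g => @Cfsg.Agent.KZ.ClD.ls = @g) (@Subtype.mk _ _ (@Fin.cons.{1} (nat_lit 4) @(fun (x0 : @Fin (@Nat.succ (@OfNat.ofNat.{0} @Nat (nat_lit 4) (@instOfNatNat (nat_lit 4))))) => @Cfsg.Agent.KZ.ClD.V4) (@Prod.mk.{0, 0} @Int (@Prod.{0, 0} @Int (@Prod.{0, 0} @Int @Int)) (@Int.ofNat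 (nat_lit 0)) (@Prod.mk.{0, 0} @Int (@Prod.{0, 0} @Int @Int) (@Int.ofNat (nat_lit 0)) (@Prod.mk.{0, 0} @Int @Int (@Int.ofNat (nat_lit 0)) (@Int.ofNat (nat_lit 0))))) (@Fin.cons.{1} (nat_lit 3) @(fun (x0 : @Fin (@Nat.succ (@OfNat.ofNat.{0} @Nat (nat_lit 3) (@instOfNatNat (nat_lit 3))))) => @Cfsg.Agent.KZ.ClD.V4) (@Prod.mk.{0, 0} @Int (@Prod.{0, 0} @Int (@Prod.{0, 0} @Int @Int)) (@Int.ofNat (nat_lit 0)) (@Prod.mk.{0, 0} @Int (@Prod.{0, 0} @Int @Int) (@Int.ofNat (nat_lit 0)) (@Prod.mk.{0, 0} @Int @Int (@Int.ofNat (nat_lit 1)) (@Int.ofNat (nat_lit 1))))) (@Fin.cons.{1} (nat_lit 2) @(fun (x0 : @Fin (@Nat.succ (@OfNat.ofNat.{0} @Nat (nat_lit 2) (@instOfNatNat (nat_lit 2))))) => @Cfsg.Agent.KZ.ClD.V4) (@Prod.mk.{0, 0} @Int (@Prod.{0, 0} @Int (@Prod.{0, 0} @Int @Int)) (@Int.ofNat (nat_lit 0)) (@Prod.mk.{0, 0} @Int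 (@Prod.{0, 0} @Int @Int) (@Int.ofNat (nat_lit 0)) (@Prod.mk.{0, 0} @Int @Int (@Int.ofNat (nat_lit 0)) (@Int.ofNat (nat_lit 1))))) (@Fin.cons.{1} (nat_lit 1) @(fun (x0 : @Fin (@Nat.succ (@OfNat.ofNat.{0} @Nat (nat_lit 1) (@instOfNatNat (nat_lit 1))))) => @Cfsg.Agent.KZ.ClD.V4) (@Prod.mk.{0, 0} @Int (@Prod.{0, 0} @Int (@Prod.{0, 0} @Int @Int)) (@Int.ofNat (nat_lit 0)) (@Prod.mk.{0, 0} @Int (@Prod.{0, 0} @Int @Int) (@Int.ofNat (nat_lit 0)) (@Prod.mk.{0, 0} @Int @Int (@Int.ofNat (nat_lit 1)) (@Int.ofNat (nat_lit 0))))) (@Fin.cons.{1} (nat_lit 0) @(fun (x0 : @Fin (@Nat.succ (@OfNat.ofNat.{0} @Nat (nat_lit 0) (@instOfNatNat (nat_lit 0))))) => @Cfsg.Agent.KZ.ClD.V4) (@Prod.mk.{0, 0} @Int (@Prod.{0, 0} @Int (@Prod.{0, 0} @Int @Int)) (@Int.ofNat (nat_lit 1)) (@Prod.mk.{0, 0} @Int (@Prod.{0, 0} @Int @Int) (@Int.ofNat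 (nat_lit 0)) (@Prod.mk.{0, 0} @Int @Int (@Int.ofNat (nat_lit 0)) (@Int.ofNat (nat_lit 0))))) (@Cfsg.Agent.KOd533b37.k14.{1} @Cfsg.Agent.KZ.ClD.V4)))))) ?_); rewrite [← Cfsg.Agent.KOd533b37.e14.{1}]; rfl') | exact @Cfsg.Agent.KZ.ClD.ls | exact ()
private theorem _root_.Cfsg.Agent.KOd533b37.e36 : (by first | exact @Cfsg.Agent.KZ.ClD.ls = @_root_.Cfsg.Agent.KOd533b37.k36 | exact True : Prop) := by first | (delta _root_.Cfsg.Agent.KOd533b37.k36; exact @Subtype.property _ (fun g => @Cfsg.Agent.KZ.ClD.ls = @g) _) | rfl | trivial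
private noncomputable def _root_.Cfsg.Agent.KOd533b37.k37 : ((x0 : Prop) → ((x1 : Prop) → ((@Decidable @x0) → ((@Decidable @x1) → @Decidable (@And @x0 @x1))))) := @(fun (x0 : Prop) (x1 : Prop) (x2 : @Decidable @x0) (x3 : @Decidable @x1) => @Decidable.rec.{1} @x0 @(fun (x4 : @Decidable @x0) => @Decidable (@And @x0 @x1)) @(fun (x4 : @Not @x0) => @Decidable.isFalse (@And @x0 @x1) (@instDecidableAnd._proof_2 @x0 @x1 @x4)) @(fun (x4 : x0) => @Decidable.rec.{1} @x1 @(fun (x5 : @Decidable @x1) => @Decidable (@And @x0 @x1)) @(fun (x5 : @Not @x1) => @Decidable.isFalse (@And @x0 @x1) (@instDecidableAnd._proof_1 @x0 @x1 @x5)) @(fun (x5 : x1) => @Decidable.isTrue (@And @x0 @x1) (@And.intro @x0 @x1 @x4 @x5)) @x3) @x2)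
private theorem _root_.Cfsg.Agent.KOd533b37.e37 : @instDecidableAnd = @_root_.Cfsg.Agent.KOd533b37.k37 := by delta _root_.Cfsg.Agent.KOd533b37.k37; rfl'
private noncomputable def _root_.Cfsg.Agent.KOd533b37.k38 : ((x0 : Prop) → ((x1 : Prop) → ((@Decidable @x0) → ((@Decidable @x1) → @Decidable (@Iff @x0 @x1))))) := @(fun (x0 : Prop) (x1 : Prop) (x2 : @Decidable @x0) (x3 : @Decidable @x1) => @Decidable.rec.{1} @x0 @(fun (x4 : @Decidable @x0) => @Decidable (@Iff @x0 @x1)) @(fun (x4 : @Not @x0) => @Decidable.rec.{1} @x1 @(fun (x5 : @Decidable @x1) => @Decidable (@Iff @x0 @x1)) @(fun (x5 : @Not @x1) => @Decidable.isTrue (@Iff @x0 @x1) (@instDecidableIff._proof_4 @x0 @x1 @x4 @x5)) @(fun (x5 : x1) => @Decidable.isFalse (@Iff @x0 @x1) (@instDecidableIff._proof_3 @x0 @x1 @x4 @x5)) @x3) @(fun (x4 : x0) => @Decidable.rec.{1}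 @x1 @(fun (x5 : @Decidable @x1) => @Decidable (@Iff @x0 @x1)) @(fun (x5 : @Not @x1) => @Decidable.isFalse (@Iff @x0 @x1) (@instDecidableIff._proof_2 @x0 @x1 @x4 @x5)) @(fun (x5 : x1) => @Decidable.isTrue (@Iff @x0 @x1) (@instDecidableIff._proof_1 @x0 @x1 @x4 @x5)) @x3) @x2)
private theorem _root_.Cfsg.Agent.KOd533b37.e38 : @instDecidableIff = @_root_.Cfsg.Agent.KOd533b37.k38 := by delta _root_.Cfsg.Agent.KOd533b37.k38; rfl'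
private noncomputable def _root_.Cfsg.Agent.KOd533b37.k39 : @DecidableEq.{1} @Bool := @Cfsg.Agent.KOd533b37.k22
private theorem _root_.Cfsg.Agent.KOd533b37.e39 : @instDecidableEqBool = @_root_.Cfsg.Agent.KOd533b37.k39 := by delta _root_.Cfsg.Agent.KOd533b37.k39; rewrite [← Cfsg.Agent.KOd533b37.e22]; rfl'
private noncomputable def _root_.Cfsg.Agent.KOd533b37.k40.{ku0, ku1} : ((x0 : Sort (ku0+1)) → ((x1 : Sort (ku1+1)) → ((@DecidableEq.{(ku0+1)} @x0) → ((@DecidableEq.{(ku1+1)} @x1) → @DecidableEq.{(max (ku1+1) (ku0+1))} (@Prod.{ku0, ku1} @x0 @x1))))) := @(fun (x0 : Sort (ku0+1)) (x1 : Sort (ku1+1)) (x2 : @DecidableEq.{(ku0+1)} @x0) (x3 : @DecidableEq.{(ku1+1)} @x1) (x4 : @Prod.{ku0, ku1} @x0 @x1) (x5 : @Prod.{ku0, ku1} @x0 @x1) => @Prod.rec.{1, ku0, ku1} @x0 @x1 @(fun (x6 : @Prod.{ku0, ku1} @x0 @x1) => @Decidable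 (@Eq.{(max (ku1+1) (ku0+1))} (@Prod.{ku0, ku1} @x0 @x1) @x6 @x5)) @(fun (x6 : x0) (x7 : x1) => @Prod.rec.{1, ku0, ku1} @x0 @x1 @(fun (x8 : @Prod.{ku0, ku1} @x0 @x1) => @Decidable (@Eq.{(max (ku1+1) (ku0+1))} (@Prod.{ku0, ku1} @x0 @x1) (@Prod.mk.{ku0, ku1} @x0 @x1 @x6 @x7) @x8)) @(fun (x8 : x0) (x9 : x1) => @Decidable.rec.{1} (@Eq.{(ku0+1)} @x0 @x6 @x8) @(fun (x10 : @Decidable (@Eq.{(ku0+1)} @x0 @x6 @x8)) => @Decidable (@Eq.{(max (ku1+1) (ku0+1))} (@Prod.{ku0, ku1} @x0 @x1) (@Prod.mk.{ku0, ku1} @x0 @x1 @x6 @x7) (@Prod.mk.{ku0, ku1} @x0 @x1 @x8 @x9))) @(fun (x10 : @Not (@Eq.{(ku0+1)} @x0 @x6 @x8)) => @Decidable.isFalse (@Eq.{(max (ku1+1) (ku0+1))} (@Prod.{ku0, ku1} @x0 @x1) (@Prod.mk.{ku0, ku1} @x0 @x1 @x6 @x7) (@Prod.mk.{ku0, ku1} @x0 @x1 @x8 @x9)) (@instDecidableEqProd._proof_3.{ku1, ku0} @x0 @x1 @x6 @x7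 @x8 @x9 @x10)) @(fun (x10 : @Eq.{(ku0+1)} @x0 @x6 @x8) => @Decidable.rec.{1} (@Eq.{(ku1+1)} @x1 @x7 @x9) @(fun (x11 : @Decidable (@Eq.{(ku1+1)} @x1 @x7 @x9)) => @Decidable (@Eq.{(max (ku1+1) (ku0+1))} (@Prod.{ku0, ku1} @x0 @x1) (@Prod.mk.{ku0, ku1} @x0 @x1 @x6 @x7) (@Prod.mk.{ku0, ku1} @x0 @x1 @x8 @x9))) @(fun (x11 : @Not (@Eq.{(ku1+1)} @x1 @x7 @x9)) => @Decidable.isFalse (@Eq.{(max (ku1+1) (ku0+1))} (@Prod.{ku0, ku1} @x0 @x1) (@Prod.mk.{ku0, ku1} @x0 @x1 @x6 @x7) (@Prod.mk.{ku0, ku1} @x0 @x1 @x8 @x9)) (@instDecidableEqProd._proof_2.{ku1, ku0} @x0 @x1 @x6 @x7 @x8 @x9 @x11)) @(fun (x11 : @Eq.{(ku1+1)} @x1 @x7 @x9) => @Decidable.isTrue (@Eq.{(max (ku1+1) (ku0+1))} (@Prod.{ku0, ku1} @x0 @x1) (@Prod.mk.{ku0, ku1} @x0 @x1 @x6 @x7) (@Prod.mk.{ku0, ku1} @x0 @x1 @x8 @x9)) (@instDecidableEqProd._proof_1.{ku1, ku0}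 @x0 @x1 @x6 @x7 @x8 @x9 @x10 @x11)) (@x3 @x7 @x9)) (@x2 @x6 @x8)) @x5) @x4)
private theorem _root_.Cfsg.Agent.KOd533b37.e40.{ku0, ku1} : @instDecidableEqProd.{ku0, ku1} = @_root_.Cfsg.Agent.KOd533b37.k40.{ku0, ku1} := by delta _root_.Cfsg.Agent.KOd533b37.k40; rfl'
private noncomputable def _root_.Cfsg.Agent.KOd533b37.k41 : ((x0 : Prop) → ((x1 : (x0 → Prop)) → ((@Decidable @x0) → (((x3 : x0) → @Decidable (@x1 @x3)) → @Decidable ((x4 : x0) → @x1 @x4))))) := @(fun (x0 : Prop) (x1 : (x0 → Prop)) (x2 : @Decidable @x0) (x3 : ((x3 : x0) → @Decidable (@x1 @x3))) => @Decidable.rec.{1} @x0 @(fun (x4 : @Decidable @x0) => @Decidable ((x5 : x0) → @x1 @x5)) @(fun (x4 : @Not @x0) => @Decidable.isTrue ((x5 : x0) → @x1 @x5) (@forall_prop_decidable._proof_2 @x0 @x1 @x4)) @(fun (x4 : x0) => @Decidable.rec.{1} (@x1 @x4) @(fun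 (x5 : @Decidable (@x1 @x4)) => @Decidable ((x6 : x0) → @x1 @x6)) @(fun (x5 : @Not (@x1 @x4)) => @Decidable.isFalse ((x6 : x0) → @x1 @x6) (@decidable_of_decidable_of_iff._proof_1 (@x1 @x4) ((x6 : x0) → @x1 @x6) (@forall_prop_decidable._proof_1 @x0 @x1 @x4) @x5)) @(fun (x5 : @x1 @x4) => @Decidable.isTrue ((x6 : x0) → @x1 @x6) (@Iff.mp (@x1 @x4) ((x6 : x0) → @x1 @x6) (@forall_prop_decidable._proof_1 @x0 @x1 @x4) @x5)) (@x3 @x4)) @x2)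
private theorem _root_.Cfsg.Agent.KOd533b37.e41 : @forall_prop_decidable = @_root_.Cfsg.Agent.KOd533b37.k41 := by delta _root_.Cfsg.Agent.KOd533b37.k41; rfl'

theorem stab_eq : ∀ t, ∀ m ∈ LW, (fx (xs t) m = true ↔ mv m (ls t) = ls t) ∧ (mv m (ls t) = ls t → vm (xs t) m = xs t) := by
  (first | (refine of_decide_eq_true ?_; rewrite [Cfsg.Agent.KOd533b37.e0, Cfsg.Agent.KOd533b37.e30, Cfsg.Agent.KOd533b37.e31, Cfsg.Agent.KOd533b37.e35, Cfsg.Agent.KOd533b37.e36, Cfsg.Agent.KOd533b37.e4, Cfsg.Agent.KOd533b37.e19, Cfsg.Agent.KOd533b37.e17.{0}, Cfsg.Agent.KOd533b37.e37, Cfsg.Agent.KOd533b37.e38, Cfsg.Agent.KOd533b37.e39, Cfsg.Agent.KOd533b37.e40.{0, 0}, Cfsg.Agent.KOd533b37.e26, Cfsg.Agent.KOd533b37.e41]; decide +kernel) | decide +kernel)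

private noncomputable def _root_.Cfsg.Agent.KOd533b37.k42 : (by first | exact type_of% @Cfsg.Agent.KZ.ClD.la | exact Unit : Sort _) := by first | (refine @Subtype.val _ (fun g => @Cfsg.Agent.KZ.ClD.la = @g) (@Subtype.mk _ _ (@Fin.cons.{1} (nat_lit 2) @(fun (x0 : @Fin (@Nat.succ (@OfNat.ofNat.{0} @Nat (nat_lit 2) (@instOfNatNat (nat_lit 2))))) => @Cfsg.Agent.KZ.ClD.V4) (@Prod.mk.{0, 0} @Int (@Prod.{0, 0} @Int (@Prod.{0, 0} @Int @Int)) (@Int.ofNat (nat_lit 0)) (@Prod.mk.{0, 0} @Int (@Prod.{0, 0} @Int @Int) (@Int.ofNat (nat_lit 1)) (@Prod.mk.{0, 0} @Int @Int (@Int.ofNat (nat_lit 0)) (@Int.ofNat (nat_lit 1))))) (@Fin.cons.{1} (nat_lit 1) @(fun (x0 : @Fin (@Nat.succ (@OfNat.ofNat.{0} @Nat (nat_lit 1) (@instOfNatNat (nat_lit 1))))) => @Cfsg.Agent.KZ.ClD.V4) (@Prod.mk.{0, 0} @Int (@Prod.{0, 0} @Int (@Prod.{0,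 0} @Int @Int)) (@Int.ofNat (nat_lit 0)) (@Prod.mk.{0, 0} @Int (@Prod.{0, 0} @Int @Int) (@Int.ofNat (nat_lit 1)) (@Prod.mk.{0, 0} @Int @Int (@Int.ofNat (nat_lit 1)) (@Int.ofNat (nat_lit 0))))) (@Fin.cons.{1} (nat_lit 0) @(fun (x0 : @Fin (@Nat.succ (@OfNat.ofNat.{0} @Nat (nat_lit 0) (@instOfNatNat (nat_lit 0))))) => @Cfsg.Agent.KZ.ClD.V4) (@Prod.mk.{0, 0} @Int (@Prod.{0, 0} @Int (@Prod.{0, 0} @Int @Int)) (@Int.ofNat (nat_lit 1)) (@Prod.mk.{0, 0} @Int (@Prod.{0, 0} @Int @Int) (@Int.ofNat (nat_lit 1)) (@Prod.mk.{0, 0} @Int @Int (@Int.ofNat (nat_lit 0)) (@Int.ofNat (nat_lit 0))))) (@Cfsg.Agent.KOd533b37.k14.{1} @Cfsg.Agent.KZ.ClD.V4)))) ?_); rewrite [← Cfsg.Agent.KOd533b37.e14.{1}]; rfl') | exact @Cfsg.Agent.KZ.ClD.la | exact ()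
private theorem _root_.Cfsg.Agent.KOd533b37.e42 : (by first | exact @Cfsg.Agent.KZ.ClD.la = @_root_.Cfsg.Agent.KOd533b37.k42 | exact True : Prop) := by first | (delta _root_.Cfsg.Agent.KOd533b37.k42; exact @Subtype.property _ (fun g => @Cfsg.Agent.KZ.ClD.la = @g) _) | rfl | trivial
private noncomputable def _root_.Cfsg.Agent.KOd533b37.k43 : (by first | exact type_of% @Cfsg.Agent.KZ.ClD.lb | exact Unit : Sort _) := by first | (refine @Subtype.val _ (fun g => @Cfsg.Agent.KZ.ClD.lb = @g) (@Subtype.mk _ _ (@Fin.cons.{1} (nat_lit 2) @(fun (x0 : @Fin (@Nat.succ (@OfNat.ofNat.{0} @Nat (nat_lit 2) (@instOfNatNat (nat_lit 2))))) => @Cfsg.Agent.KZ.ClD.V4) (@Prod.mk.{0, 0} @Int (@Prod.{0, 0} @Int (@Prod.{0, 0} @Int @Int)) (@Int.ofNat (nat_lit 0)) (@Prod.mk.{0, 0} @Int (@Prod.{0, 0} @Int @Int) (@Int.ofNat (nat_lit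 0)) (@Prod.mk.{0, 0} @Int @Int (@Int.ofNat (nat_lit 1)) (@Int.ofNat (nat_lit 1))))) (@Fin.cons.{1} (nat_lit 1) @(fun (x0 : @Fin (@Nat.succ (@OfNat.ofNat.{0} @Nat (nat_lit 1) (@instOfNatNat (nat_lit 1))))) => @Cfsg.Agent.KZ.ClD.V4) (@Prod.mk.{0, 0} @Int (@Prod.{0, 0} @Int (@Prod.{0, 0} @Int @Int)) (@Int.ofNat (nat_lit 0)) (@Prod.mk.{0, 0} @Int (@Prod.{0, 0} @Int @Int) (@Int.ofNat (nat_lit 0)) (@Prod.mk.{0, 0} @Int @Int (@Int.ofNat (nat_lit 1)) (@Int.ofNat (nat_lit 1))))) (@Fin.cons.{1} (nat_lit 0) @(fun (x0 : @Fin (@Nat.succ (@OfNat.ofNat.{0} @Nat (nat_lit 0) (@instOfNatNat (nat_lit 0))))) => @Cfsg.Agent.KZ.ClD.V4) (@Prod.mk.{0, 0} @Int (@Prod.{0, 0} @Int (@Prod.{0, 0} @Int @Int)) (@Int.ofNat (nat_lit 1)) (@Prod.mk.{0, 0} @Int (@Prod.{0, 0} @Int @Int) (@Int.ofNat (nat_lit 0)) (@Prod.mk.{0, 0} @Int @Int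 (@Int.ofNat (nat_lit 0)) (@Int.ofNat (nat_lit 1))))) (@Cfsg.Agent.KOd533b37.k14.{1} @Cfsg.Agent.KZ.ClD.V4)))) ?_); rewrite [← Cfsg.Agent.KOd533b37.e14.{1}]; rfl') | exact @Cfsg.Agent.KZ.ClD.lb | exact ()
private theorem _root_.Cfsg.Agent.KOd533b37.e43 : (by first | exact @Cfsg.Agent.KZ.ClD.lb = @_root_.Cfsg.Agent.KOd533b37.k43 | exact True : Prop) := by first | (delta _root_.Cfsg.Agent.KOd533b37.k43; exact @Subtype.property _ (fun g => @Cfsg.Agent.KZ.ClD.lb = @g) _) | rfl | trivial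
private noncomputable def _root_.Cfsg.Agent.KOd533b37.k44 : ((x0 : Prop) → ((x1 : Prop) → ((@Decidable @x0) → ((@Decidable @x1) → @Decidable (@Or @x0 @x1))))) := @(fun (x0 : Prop) (x1 : Prop) (x2 : @Decidable @x0) (x3 : @Decidable @x1) => @Decidable.rec.{1} @x0 @(fun (x4 : @Decidable @x0) => @Decidable (@Or @x0 @x1)) @(fun (x4 : @Not @x0) => @Decidable.rec.{1} @x1 @(fun (x5 : @Decidable @x1) => @Decidable (@Or @x0 @x1)) @(fun (x5 : @Not @x1) => @Decidable.isFalse (@Or @x0 @x1) (@instDecidableOr._proof_1 @x0 @x1 @x4 @x5)) @(fun (x5 : x1) => @Decidable.isTrue (@Or @x0 @x1) (@Or.inr @x0 @x1 @x5)) @x3) @(fun (x4 : x0) => @Decidable.isTrue (@Or @x0 @x1) (@Or.inl @x0 @x1 @x4)) @x2)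
private theorem _root_.Cfsg.Agent.KOd533b37.e44 : @instDecidableOr = @_root_.Cfsg.Agent.KOd533b37.k44 := by delta _root_.Cfsg.Agent.KOd533b37.k44; rfl'

theorem stab_sub : ∀ t, ∀ m ∈ LW, (mv m (la t) = la t ∨ mv m (lb t) = lb t) → mv m (ls (t4 t)) = ls (t4 t) := by
  (first | (refine of_decide_eq_true ?_; rewrite [Cfsg.Agent.KOd533b37.e0, Cfsg.Agent.KOd533b37.e35, Cfsg.Agent.KOd533b37.e42, Cfsg.Agent.KOd533b37.e43, Cfsg.Agent.KOd533b37.e36, Cfsg.Agent.KOd533b37.e19, Cfsg.Agent.KOd533b37.e17.{0}, Cfsg.Agent.KOd533b37.e41, Cfsg.Agent.KOd533b37.e44, Cfsg.Agent.KOd533b37.e40.{0, 0}, Cfsg.Agent.KOd533b37.e26]; decide +kernel) | decide +kernel)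

private noncomputable def _root_.Cfsg.Agent.KOd533b37.k45.{ku0} : ((x0 : Sort (ku0+1)) → ((x0 → @Bool) → ((@List.{ku0} @x0) → (@Nat → @Nat)))) := @(fun (x0 : Sort (ku0+1)) (x1 : (x0 → @Bool)) (x2 : @List.{ku0} @x0) (x3 : @Nat) => @List.rec.{1, ku0} @x0 @(fun (x4 : @List.{ku0} @x0) => (@Nat → @Nat)) @(fun (x4 : @Nat) => x4) @(fun (x4 : x0) (x5 : @List.{ku0} @x0) (x6 : (@Nat → @Nat)) (x7 : @Nat) => @Bool.rec.{1} @(fun (x8 : @Bool) => @Nat) (@x6 @x7) (@x6 (@Nat.add @x7 (nat_lit 1))) (@x1 @x4)) @x2 @x3)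
private theorem _root_.Cfsg.Agent.KOd533b37.e45.{ku0} : @List.countP.go.{ku0} = @_root_.Cfsg.Agent.KOd533b37.k45.{ku0} := by delta _root_.Cfsg.Agent.KOd533b37.k45; funext a0 a1 a2 a3; refine (congrFun (_root_.Cfsg.Agent.KOd533b37.e16 (fun a2 a3 => @List.countP.go.{ku0} a0 a1 a2 a3) ?_ (fun c0 c1 => ?_) a2) a3 :) <;> (rfl')
private noncomputable def _root_.Cfsg.Agent.KOd533b37.k46.{ku0} : ((x0 : Sort (ku0+1)) → ((x0 → @Bool) → ((@List.{ku0} @x0) → @Nat))) := @(fun (x0 : Sort (ku0+1)) (x1 : (x0 → @Bool)) (x2 : @List.{ku0} @x0) => @Cfsg.Agent.KOd533b37.k45.{ku0} @x0 @x1 @x2 (nat_lit 0))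
private theorem _root_.Cfsg.Agent.KOd533b37.e46.{ku0} : @List.countP.{ku0} = @_root_.Cfsg.Agent.KOd533b37.k46.{ku0} := by delta _root_.Cfsg.Agent.KOd533b37.k46; rewrite [← Cfsg.Agent.KOd533b37.e45.{ku0}]; rfl'

theorem len_sub : ∀ t, (LW.countP fun m => mv m (la t) = la t) = 4 ∧ (LW.countP fun m => mv m (lb t) = lb t) = 6 := by
  (first | (refine of_decide_eq_true ?_; rewrite [Cfsg.Agent.KOd533b37.e0, Cfsg.Agent.KOd533b37.e46.{0}, Cfsg.Agent.KOd533b37.e35, Cfsg.Agent.KOd533b37.e42, Cfsg.Agent.KOd533b37.e40.{0, 0}, Cfsg.Agent.KOd533b37.e26, Cfsg.Agent.KOd533b37.e43, Cfsg.Agent.KOd533b37.e19, Cfsg.Agent.KOd533b37.e37, Cfsg.Agent.KOd533b37.e34]; decide +kernel) | decide +kernel)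

theorem ind_eq : ∀ t, ∀ m ∈ LS (t4 t),
    3 * (((LS (t4 t)).countP fun v => mv m (mv v (la t)) = mv v (la t) : ℕ) : ℤ) -
      2 * (((LS (t4 t)).countP fun v => mv m (mv v (lb t)) = mv v (lb t) : ℕ) : ℤ) = 12 * ph 2 m := by
  (first | (refine of_decide_eq_true ?_; rewrite [Cfsg.Agent.KOd533b37.e0, Cfsg.Agent.KOd533b37.e32, Cfsg.Agent.KOd533b37.e46.{0}, Cfsg.Agent.KOd533b37.e35, Cfsg.Agent.KOd533b37.e42, Cfsg.Agent.KOd533b37.e40.{0, 0}, Cfsg.Agent.KOd533b37.e26, Cfsg.Agent.KOd533b37.e43, Cfsg.Agent.KOd533b37.e19, Cfsg.Agent.KOd533b37.e17.{0}]; decide +kernel) | decide +kernel)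

private noncomputable def _root_.Cfsg.Agent.KOd533b37.k47 : ((x0 : @Nat) → @DecidableEq.{1} (@Fin @x0)) := @(fun (x0 : @Nat) (x1 : @Fin @x0) (x2 : @Fin @x0) => @Decidable.rec.{1} (@Eq.{1} @Nat (@Fin.val @x0 @x1) (@Fin.val @x0 @x2)) @(fun (x3 : @Decidable (@Eq.{1} @Nat (@Fin.val @x0 @x1) (@Fin.val @x0 @x2))) => @Decidable (@Eq.{1} (@Fin @x0) @x1 @x2)) @(fun (x3 : @Not (@Eq.{1} @Nat (@Fin.val @x0 @x1) (@Fin.val @x0 @x2))) => @Decidable.isFalse (@Eq.{1} (@Fin @x0) @x1 @x2) (@instDecidableEqFin._proof_1 @x0 @x1 @x2 @x3)) @(fun (x3 : @Eq.{1} @Nat (@Fin.val @x0 @x1) (@Fin.val @x0 @x2)) => @Decidable.isTrue (@Eq.{1} (@Fin @x0) @x1 @x2) (@Fin.eq_of_val_eq @x0 @x1 @x2 @x3)) (@Cfsg.Agent.KOd533b37.k24 (@Fin.val @x0 @x1) (@Fin.val @x0 @x2)))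
private theorem _root_.Cfsg.Agent.KOd533b37.e47 : @instDecidableEqFin = @_root_.Cfsg.Agent.KOd533b37.k47 := by delta _root_.Cfsg.Agent.KOd533b37.k47; rewrite [← Cfsg.Agent.KOd533b37.e24]; rfl'
private noncomputable def _root_.Cfsg.Agent.KOd533b37.k48.{ku0, ku1} : ((x0 : Sort (ku0+1)) → ((x1 : Sort (ku1+1)) → ((x0 → (x1 → x1)) → (x1 → ((@List.{ku0} @x0) → x1))))) := @(fun (x0 : Sort (ku0+1)) (x1 : Sort (ku1+1)) (x2 : (x0 → (x1 → x1))) (x3 : x1) (x4 : @List.{ku0} @x0) => @List.rec.{(ku1+1), ku0} @x0 @(fun (x5 : @List.{ku0} @x0) => x1) @x3 @(fun (x5 : x0) (x6 : @List.{ku0} @x0) (x7 : x1) => @x2 @x5 @x7) @x4)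
private theorem _root_.Cfsg.Agent.KOd533b37.e48.{ku0, ku1} : @List.foldr.{ku0, ku1} = @_root_.Cfsg.Agent.KOd533b37.k48.{ku0, ku1} := by delta _root_.Cfsg.Agent.KOd533b37.k48; funext a0 a1 a2 a3 a4; refine (_root_.Cfsg.Agent.KOd533b37.e16 (fun a4 => @List.foldr.{ku0, ku1} a0 a1 a2 a3 a4) ?_ (fun c0 c1 => ?_) a4 :) <;> (rfl')
private noncomputable def _root_.Cfsg.Agent.KOd533b37.k49.{ku0} : ((x0 : Sort (ku0+1)) → ((@Add.{ku0} @x0) → ((@Zero.{ku0} @x0) → ((@List.{ku0} @x0) → x0)))) := @(fun (x0 : Sort (ku0+1)) (x1 : @Add.{ku0} @x0) (x2 : @Zero.{ku0} @x0) => @Cfsg.Agent.KOd533b37.k48.{ku0, ku0} @x0 @x0 @(fun (x3 : x0) (x4 : x0) => @Add.add.{ku0} @x0 @x1 @x3 @x4) (@Zero.zero.{ku0} @x0 @x2))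
private theorem _root_.Cfsg.Agent.KOd533b37.e49.{ku0} : @List.sum.{ku0} = @_root_.Cfsg.Agent.KOd533b37.k49.{ku0} := by delta _root_.Cfsg.Agent.KOd533b37.k49; rewrite [← Cfsg.Agent.KOd533b37.e48.{ku0, ku0}]; rfl'
private noncomputable def _root_.Cfsg.Agent.KOd533b37.k50.{ku0, ku1} : ((x0 : Sort (ku0+1)) → ((x1 : Sort (ku1+1)) → ((x0 → x1) → ((@List.{ku0} @x0) → @List.{ku1} @x1)))) := @(fun (x0 : Sort (ku0+1)) (x1 : Sort (ku1+1)) (x2 : (x0 → x1)) (x3 : @List.{ku0} @x0) => @List.rec.{(ku1+1), ku0} @x0 @(fun (x4 : @List.{ku0} @x0) => @List.{ku1} @x1) (@List.nil.{ku1} @x1) @(fun (x4 : x0) (x5 : @List.{ku0} @x0) (x6 : @List.{ku1} @x1) => @List.cons.{ku1} @x1 (@x2 @x4) @x6) @x3)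
private theorem _root_.Cfsg.Agent.KOd533b37.e50.{ku0, ku1} : @List.map.{ku0, ku1} = @_root_.Cfsg.Agent.KOd533b37.k50.{ku0, ku1} := by delta _root_.Cfsg.Agent.KOd533b37.k50; funext a0 a1 a2 a3; refine (_root_.Cfsg.Agent.KOd533b37.e16 (fun a3 => @List.map.{ku0, ku1} a0 a1 a2 a3) ?_ (fun c0 c1 => ?_) a3 :) <;> (rfl')
private noncomputable def _root_.Cfsg.Agent.KOd533b37.k51.{ku0} : ((x0 : Sort ku0) → ((x1 : Prop) → ((@Decidable @x1) → (x0 → (x0 → x0))))) := @(fun (x0 : Sort ku0) (x1 : Prop) (x2 : @Decidable @x1) (x3 : x0) (x4 : x0) => @Decidable.rec.{ku0} @x1 @(fun (x5 : @Decidable @x1) => x0) @(fun (x5 : @Not @x1) => x4) @(fun (x5 : x1) => x3) @x2)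
private theorem _root_.Cfsg.Agent.KOd533b37.e51.{ku0} : @ite.{ku0} = @_root_.Cfsg.Agent.KOd533b37.k51.{ku0} := by delta _root_.Cfsg.Agent.KOd533b37.k51; rfl'
private noncomputable def _root_.Cfsg.Agent.KOd533b37.k52.{ku0, ku1} : ((x0 : Sort (ku0+1)) → ((x1 : Sort (ku1+1)) → ((@DecidableEq.{(ku0+1)} @x0) → ((@DecidableEq.{(ku1+1)} @x1) → ((x4 : @Sum.{ku0, ku1} @x0 @x1) → ((x5 : @Sum.{ku0, ku1} @x0 @x1) → @Decidable (@Eq.{(max (ku1+1) (ku0+1))} (@Sum.{ku0, ku1} @x0 @x1) @x4 @x5))))))) := @(fun (x0 : Sort (ku0+1)) (x1 : Sort (ku1+1)) (x2 : @DecidableEq.{(ku0+1)} @x0) (x3 : @DecidableEq.{(ku1+1)} @x1) (x4 : @Sum.{ku0, ku1} @x0 @x1) (x5 : @Sum.{ku0, ku1} @x0 @x1) => @Sum.rec.{1, ku0, ku1} @x0 @x1 @(fun (x6 : @Sum.{ku0, ku1} @x0 @x1) => @Decidable (@Eq.{(max (ku1+1) (ku0+1))} (@Sum.{ku0, ku1} @x0 @x1) @x6 @x5))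 @(fun (x6 : x0) => @Sum.rec.{1, ku0, ku1} @x0 @x1 @(fun (x7 : @Sum.{ku0, ku1} @x0 @x1) => @Decidable (@Eq.{(max (ku1+1) (ku0+1))} (@Sum.{ku0, ku1} @x0 @x1) (@Sum.inl.{ku0, ku1} @x0 @x1 @x6) @x7)) @(fun (x7 : x0) => @Decidable.rec.{1} (@Eq.{(ku0+1)} @x0 @x6 @x7) @(fun (x8 : @Decidable (@Eq.{(ku0+1)} @x0 @x6 @x7)) => @Decidable (@Eq.{(max (ku1+1) (ku0+1))} (@Sum.{ku0, ku1} @x0 @x1) (@Sum.inl.{ku0, ku1} @x0 @x1 @x6) (@Sum.inl.{ku0, ku1} @x0 @x1 @x7))) @(fun (x8 : @Not (@Eq.{(ku0+1)} @x0 @x6 @x7)) => @Decidable.isFalse (@Eq.{(max (ku1+1) (ku0+1))} (@Sum.{ku0, ku1} @x0 @x1) (@Sum.inl.{ku0, ku1} @x0 @x1 @x6) (@Sum.inl.{ku0, ku1} @x0 @x1 @x7)) (@instDecidableEqSum.decEq._proof_3.{ku1, ku0} @x0 @x1 @x6 @x7 @x8)) @(fun (x8 : @Eq.{(ku0+1)} @x0 @x6 @x7) => @Eq.rec.{1, (ku0+1)} @x0 @x6 @(fun (x9 : x0) (x10 : @Eq.{(ku0+1)}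 @x0 @x6 @x9) => @Decidable (@Eq.{(max (ku1+1) (ku0+1))} (@Sum.{ku0, ku1} @x0 @x1) (@Sum.inl.{ku0, ku1} @x0 @x1 @x6) (@Sum.inl.{ku0, ku1} @x0 @x1 @x9))) (@Decidable.isTrue (@Eq.{(max (ku1+1) (ku0+1))} (@Sum.{ku0, ku1} @x0 @x1) (@Sum.inl.{ku0, ku1} @x0 @x1 @x6) (@Sum.inl.{ku0, ku1} @x0 @x1 @x6)) (@instDecidableEqSum.decEq._proof_1.{ku1, ku0} @x0 @x1 @x6)) @x7 @x8) (@x2 @x6 @x7)) @(fun (x7 : x1) => @Decidable.isFalse (@Eq.{(max (ku1+1) (ku0+1))} (@Sum.{ku0, ku1} @x0 @x1) (@Sum.inl.{ku0, ku1} @x0 @x1 @x6) (@Sum.inr.{ku0, ku1} @x0 @x1 @x7)) (@instDecidableEqSum.decEq._proof_4.{ku1, ku0} @x0 @x1 @x6 @x7)) @x5) @(fun (x6 : x1) => @Sum.rec.{1, ku0, ku1} @x0 @x1 @(fun (x7 : @Sum.{ku0, ku1} @x0 @x1) => @Decidable (@Eq.{(max (ku1+1) (ku0+1))} (@Sum.{ku0, ku1} @x0 @x1) (@Sum.inr.{ku0, ku1} @x0 @x1 @x6) @x7)) @(fun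 (x7 : x0) => @Decidable.isFalse (@Eq.{(max (ku1+1) (ku0+1))} (@Sum.{ku0, ku1} @x0 @x1) (@Sum.inr.{ku0, ku1} @x0 @x1 @x6) (@Sum.inl.{ku0, ku1} @x0 @x1 @x7)) (@instDecidableEqSum.decEq._proof_5.{ku1, ku0} @x0 @x1 @x6 @x7)) @(fun (x7 : x1) => @Decidable.rec.{1} (@Eq.{(ku1+1)} @x1 @x6 @x7) @(fun (x8 : @Decidable (@Eq.{(ku1+1)} @x1 @x6 @x7)) => @Decidable (@Eq.{(max (ku1+1) (ku0+1))} (@Sum.{ku0, ku1} @x0 @x1) (@Sum.inr.{ku0, ku1} @x0 @x1 @x6) (@Sum.inr.{ku0, ku1} @x0 @x1 @x7))) @(fun (x8 : @Not (@Eq.{(ku1+1)} @x1 @x6 @x7)) => @Decidable.isFalse (@Eq.{(max (ku1+1) (ku0+1))} (@Sum.{ku0, ku1} @x0 @x1) (@Sum.inr.{ku0, ku1} @x0 @x1 @x6) (@Sum.inr.{ku0, ku1} @x0 @x1 @x7)) (@instDecidableEqSum.decEq._proof_6.{ku1, ku0} @x0 @x1 @x6 @x7 @x8)) @(fun (x8 : @Eq.{(ku1+1)} @x1 @x6 @x7) => @Eq.rec.{1, (ku1+1)} @x1 @x6 @(fun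 (x9 : x1) (x10 : @Eq.{(ku1+1)} @x1 @x6 @x9) => @Decidable (@Eq.{(max (ku1+1) (ku0+1))} (@Sum.{ku0, ku1} @x0 @x1) (@Sum.inr.{ku0, ku1} @x0 @x1 @x6) (@Sum.inr.{ku0, ku1} @x0 @x1 @x9))) (@Decidable.isTrue (@Eq.{(max (ku1+1) (ku0+1))} (@Sum.{ku0, ku1} @x0 @x1) (@Sum.inr.{ku0, ku1} @x0 @x1 @x6) (@Sum.inr.{ku0, ku1} @x0 @x1 @x6)) (@instDecidableEqSum.decEq._proof_2.{ku1, ku0} @x0 @x1 @x6)) @x7 @x8) (@x3 @x6 @x7)) @x5) @x4)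
private theorem _root_.Cfsg.Agent.KOd533b37.e52.{ku0, ku1} : @instDecidableEqSum.decEq.{ku0, ku1} = @_root_.Cfsg.Agent.KOd533b37.k52.{ku0, ku1} := by delta _root_.Cfsg.Agent.KOd533b37.k52; rfl'
private noncomputable def _root_.Cfsg.Agent.KOd533b37.k53.{ku0, ku1} : ((x0 : Sort (ku0+1)) → ((x1 : Sort (ku1+1)) → ((@DecidableEq.{(ku0+1)} @x0) → ((@DecidableEq.{(ku1+1)} @x1) → @DecidableEq.{(max (ku1+1) (ku0+1))} (@Sum.{ku0, ku1} @x0 @x1))))) := @(fun (x0 : Sort (ku0+1)) (x1 : Sort (ku1+1)) (x2 : @DecidableEq.{(ku0+1)} @x0) (x3 : @DecidableEq.{(ku1+1)} @x1) => @Cfsg.Agent.KOd533b37.k52.{ku0, ku1} @x0 @x1 @x2 @x3)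
private theorem _root_.Cfsg.Agent.KOd533b37.e53.{ku0, ku1} : @instDecidableEqSum.{ku0, ku1} = @_root_.Cfsg.Agent.KOd533b37.k53.{ku0, ku1} := by delta _root_.Cfsg.Agent.KOd533b37.k53; rewrite [← Cfsg.Agent.KOd533b37.e52.{ku0, ku1}]; rfl'
private noncomputable def _root_.Cfsg.Agent.KOd533b37.k62.{ku0} : ((x0 : Sort (ku0+1)) → ((x1 : (x0 → Prop)) → ((@DecidablePred.{(ku0+1)} @x0 @x1) → ((@Fintype.{ku0} @x0) → @Decidable ((x4 : x0) → @x1 @x4))))) := @(fun (x0 : Sort (ku0+1)) (x1 : (x0 → Prop)) (x2 : @DecidablePred.{(ku0+1)} @x0 @x1) (x3 : @Fintype.{ku0} @x0) => @Decidable.rec.{1} ((x4 : x0) → ((@Membership.mem.{ku0, ku0} @x0 (@Finset.{ku0} @x0) (@SetLike.instMembership.{ku0, ku0} (@Finset.{ku0} @x0) @x0 (@Finset.instSetLike.{ku0} @x0)) (@Finset.univ.{ku0} @x0 @x3) @x4) → @x1 @x4)) @(fun (x4 : @Decidable ((x4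 : x0) → ((@Membership.mem.{ku0, ku0} @x0 (@Finset.{ku0} @x0) (@SetLike.instMembership.{ku0, ku0} (@Finset.{ku0} @x0) @x0 (@Finset.instSetLike.{ku0} @x0)) (@Finset.univ.{ku0} @x0 @x3) @x4) → @x1 @x4))) => @Decidable ((x5 : x0) → @x1 @x5)) @(fun (x4 : @Not ((x4 : x0) → ((@Membership.mem.{ku0, ku0} @x0 (@Finset.{ku0} @x0) (@SetLike.instMembership.{ku0, ku0} (@Finset.{ku0} @x0) @x0 (@Finset.instSetLike.{ku0} @x0)) (@Finset.univ.{ku0} @x0 @x3) @x4) → @x1 @x4))) => @Decidable.isFalse ((x5 : x0) → @x1 @x5) (@decidable_of_decidable_of_iff._proof_1 ((x5 : x0) → ((@Membership.mem.{ku0, ku0} @x0 (@Finset.{ku0} @x0) (@SetLike.instMembership.{ku0, ku0} (@Finset.{ku0} @x0) @x0 (@Finset.instSetLike.{ku0} @x0)) (@Finset.univ.{ku0} @x0 @x3) @x5) → @x1 @x5)) ((x5 : x0) → @x1 @x5) (@Fintype.decidableForallFintype._proof_1.{ku0}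 @x0 @x1 @x3) @x4)) @(fun (x4 : ((x4 : x0) → ((@Membership.mem.{ku0, ku0} @x0 (@Finset.{ku0} @x0) (@SetLike.instMembership.{ku0, ku0} (@Finset.{ku0} @x0) @x0 (@Finset.instSetLike.{ku0} @x0)) (@Finset.univ.{ku0} @x0 @x3) @x4) → @x1 @x4))) => @Decidable.isTrue ((x5 : x0) → @x1 @x5) (@Iff.mp ((x5 : x0) → ((@Membership.mem.{ku0, ku0} @x0 (@Finset.{ku0} @x0) (@SetLike.instMembership.{ku0, ku0} (@Finset.{ku0} @x0) @x0 (@Finset.instSetLike.{ku0} @x0)) (@Finset.univ.{ku0} @x0 @x3) @x5) → @x1 @x5)) ((x5 : x0) → @x1 @x5) (@Fintype.decidableForallFintype._proof_1.{ku0} @x0 @x1 @x3) @x4)) (@Finset.decidableDforallFinset.{ku0} @x0 (@Fintype.elems.{ku0} @x0 @x3) @(fun (x4 : x0) (x5 : @Membership.mem.{ku0, ku0} @x0 (@Finset.{ku0} @x0) (@SetLike.instMembership.{ku0, ku0} (@Finset.{ku0} @x0) @x0 (@Finset.instSetLike.{ku0}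 @x0)) (@Finset.univ.{ku0} @x0 @x3) @x4) => @x1 @x4) @(fun (x4 : x0) (x5 : @Membership.mem.{ku0, ku0} @x0 (@Finset.{ku0} @x0) (@SetLike.instMembership.{ku0, ku0} (@Finset.{ku0} @x0) @x0 (@Finset.instSetLike.{ku0} @x0)) (@Finset.univ.{ku0} @x0 @x3) @x4) => @x2 @x4)))
private theorem _root_.Cfsg.Agent.KOd533b37.e62.{ku0} : @Fintype.decidableForallFintype.{ku0} = @_root_.Cfsg.Agent.KOd533b37.k62.{ku0} := by delta _root_.Cfsg.Agent.KOd533b37.k62; rfl'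

theorem orth : ∀ j j', jt j = jt j' →
    ((LS (jt j)).map fun m => ph (ji j') m * ph (ji j) m).sum = if j = j' then ((LS (jt j)).length : ℤ) else 0 := by
  (first | (refine of_decide_eq_true ?_; rewrite [Cfsg.Agent.KOd533b37.e0, Cfsg.Agent.KOd533b37.e49.{0}, Cfsg.Agent.KOd533b37.e50.{0, 0}, Cfsg.Agent.KOd533b37.e32, Cfsg.Agent.KOd533b37.e51.{1}, Cfsg.Agent.KOd533b37.e53.{0, 0}, Cfsg.Agent.KOd533b37.e47, Cfsg.Agent.KOd533b37.e40.{0, 0}, Cfsg.Agent.KOd533b37.e27.{0}, Cfsg.Agent.KOd533b37.e62.{0}, Cfsg.Agent.KOd533b37.e41, Cfsg.Agent.KOd533b37.e26]; decide +kernel) | decide +kernel)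

private noncomputable def _root_.Cfsg.Agent.KOd533b37.k63 : ((x0 : Prop) → ((@Decidable @x0) → @Decidable (@Not @x0))) := @(fun (x0 : Prop) (x1 : @Decidable @x0) => @Decidable.rec.{1} @x0 @(fun (x2 : @Decidable @x0) => @Decidable (@Not @x0)) @(fun (x2 : @Not @x0) => @Decidable.isTrue (@Not @x0) @x2) @(fun (x2 : x0) => @Decidable.isFalse (@Not @x0) (@absurd.{0} @x0 @False @x2)) @x1)
private theorem _root_.Cfsg.Agent.KOd533b37.e63 : @instDecidableNot = @_root_.Cfsg.Agent.KOd533b37.k63 := by delta _root_.Cfsg.Agent.KOd533b37.k63; rfl'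

theorem not_conj : ∀ t t', t ≠ t' → ∀ m ∈ LW, e3 (vm (xs t') m) (xs t) = false := by (first | (refine of_decide_eq_true ?_; rewrite [Cfsg.Agent.KOd533b37.e0, Cfsg.Agent.KOd533b37.e4, Cfsg.Agent.KOd533b37.e31, Cfsg.Agent.KOd533b37.e19, Cfsg.Agent.KOd533b37.e41, Cfsg.Agent.KOd533b37.e63, Cfsg.Agent.KOd533b37.e47, Cfsg.Agent.KOd533b37.e17.{0}, Cfsg.Agent.KOd533b37.e39]; decide +kernel) | decide +kernel)

attribute [local instance high] _root_.List.decidableBAll _root_.List.decidableBEx in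
theorem move : ∀ b ∈ LB, ∀ n ∈ [(1 : ℤ), 2], (∀ t ∈ [(0 : Fin 5), 1], ∃ m ∈ LW, e3 (vm (xs t) m) (sc n (vm (xs t) b)) = true) ∧
    ∀ t, ∃ t', ∃ m ∈ LW, e3 (vm (xs (t4 t')) m) (sc n (vm (xs (t4 t)) b)) = true := by
  decide +kernel

theorem det_LB : ∀ b ∈ LB, d4 b = 1 ∨ d4 b = -1 := by decide +kernel

private noncomputable def _root_.Cfsg.Agent.KOd533b37.k5 : (by first | exact type_of% @Cfsg.Agent.KZ.ClD.mm | exact Unit : Sort _) := by first | (refine @Subtype.val _ (fun g => @Cfsg.Agent.KZ.ClD.mm = @g) (@Subtype.mk _ _ (@(fun (x0 : @Cfsg.Agent.KZ.ClD.M4) (x1 : @Cfsg.Agent.KZ.ClD.M4) => @Prod.mk.{0, 0} @Cfsg.Agent.KZ.ClD.V4 (@Prod.{0, 0} @Cfsg.Agent.KZ.ClD.V4 (@Prod.{0, 0} @Cfsg.Agent.KZ.ClD.V4 @Cfsg.Agent.KZ.ClD.V4)) (@Cfsg.Agent.KOd533b37.k4 (@Prod.fst.{0, 0} @Cfsg.Agent.KZ.ClD.V4 (@Prod.{0, 0} @Cfsg.Agent.KZ.ClD.V4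 (@Prod.{0, 0} @Cfsg.Agent.KZ.ClD.V4 @Cfsg.Agent.KZ.ClD.V4)) @x0) @x1) (@Prod.mk.{0, 0} @Cfsg.Agent.KZ.ClD.V4 (@Prod.{0, 0} @Cfsg.Agent.KZ.ClD.V4 @Cfsg.Agent.KZ.ClD.V4) (@Cfsg.Agent.KOd533b37.k4 (@Prod.fst.{0, 0} @Cfsg.Agent.KZ.ClD.V4 (@Prod.{0, 0} @Cfsg.Agent.KZ.ClD.V4 @Cfsg.Agent.KZ.ClD.V4) (@Prod.snd.{0, 0} @Cfsg.Agent.KZ.ClD.V4 (@Prod.{0, 0} @Cfsg.Agent.KZ.ClD.V4 (@Prod.{0, 0} @Cfsg.Agent.KZ.ClD.V4 @Cfsg.Agent.KZ.ClD.V4)) @x0)) @x1) (@Prod.mk.{0, 0} @Cfsg.Agent.KZ.ClD.V4 @Cfsg.Agent.KZ.ClD.V4 (@Cfsg.Agent.KOd533b37.k4 (@Prod.fst.{0, 0} @Cfsg.Agent.KZ.ClD.V4 @Cfsg.Agent.KZ.ClD.V4 (@Prod.snd.{0, 0} @Cfsg.Agent.KZ.ClD.V4 (@Prod.{0, 0} @Cfsg.Agent.KZ.ClD.V4 @Cfsg.Agent.KZ.ClD.V4) (@Prod.snd.{0, 0} @Cfsg.Agent.KZ.ClD.V4 (@Prod.{0, 0} @Cfsg.Agent.KZ.ClD.V4 (@Prod.{0, 0} @Cfsg.Agent.KZ.ClD.V4 @Cfsg.Agent.KZ.ClD.V4))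 @x0))) @x1) (@Cfsg.Agent.KOd533b37.k4 (@Prod.snd.{0, 0} @Cfsg.Agent.KZ.ClD.V4 @Cfsg.Agent.KZ.ClD.V4 (@Prod.snd.{0, 0} @Cfsg.Agent.KZ.ClD.V4 (@Prod.{0, 0} @Cfsg.Agent.KZ.ClD.V4 @Cfsg.Agent.KZ.ClD.V4) (@Prod.snd.{0, 0} @Cfsg.Agent.KZ.ClD.V4 (@Prod.{0, 0} @Cfsg.Agent.KZ.ClD.V4 (@Prod.{0, 0} @Cfsg.Agent.KZ.ClD.V4 @Cfsg.Agent.KZ.ClD.V4)) @x0))) @x1))))) ?_); rewrite [← Cfsg.Agent.KOd533b37.e4]; (try delta Cfsg.Agent.KZ.ClD.mm); (try generalize @Cfsg.Agent.KZ.ClD.vm = g0); rfl') | exact @Cfsg.Agent.KZ.ClD.mm | exact ()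
private theorem _root_.Cfsg.Agent.KOd533b37.e5 : (by first | exact @Cfsg.Agent.KZ.ClD.mm = @_root_.Cfsg.Agent.KOd533b37.k5 | exact True : Prop) := by first | (delta _root_.Cfsg.Agent.KOd533b37.k5; exact @Subtype.property _ (fun g => @Cfsg.Agent.KZ.ClD.mm = @g) _) | rfl | trivial
private noncomputable def _root_.Cfsg.Agent.KOd533b37.k64 : (by first | exact type_of% @Cfsg.Agent.KZ.ClD.sc | exact Unit : Sort _) := by first | (refine @Subtype.val _ (fun g => @Cfsg.Agent.KZ.ClD.sc = @g) (@Subtype.mk _ _ (@(fun (x0 : @Int) (x1 : @Cfsg.Agent.KZ.ClD.V4) => @Prod.mk.{0, 0} @Int (@Prod.{0, 0} @Int (@Prod.{0, 0} @Int @Int)) (@Cfsg.Agent.KOd533b37.k2 @x0 (@Prod.fst.{0, 0} @Int (@Prod.{0, 0} @Int (@Prod.{0, 0} @Int @Int)) @x1)) (@Prod.mk.{0, 0} @Int (@Prod.{0, 0} @Int @Int) (@Cfsg.Agent.KOd533b37.k2 @x0 (@Prod.fst.{0,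 0} @Int (@Prod.{0, 0} @Int @Int) (@Prod.snd.{0, 0} @Int (@Prod.{0, 0} @Int (@Prod.{0, 0} @Int @Int)) @x1))) (@Prod.mk.{0, 0} @Int @Int (@Cfsg.Agent.KOd533b37.k2 @x0 (@Prod.fst.{0, 0} @Int @Int (@Prod.snd.{0, 0} @Int (@Prod.{0, 0} @Int @Int) (@Prod.snd.{0, 0} @Int (@Prod.{0, 0} @Int (@Prod.{0, 0} @Int @Int)) @x1)))) (@Cfsg.Agent.KOd533b37.k2 @x0 (@Prod.snd.{0, 0} @Int @Int (@Prod.snd.{0, 0} @Int (@Prod.{0, 0} @Int @Int) (@Prod.snd.{0, 0} @Int (@Prod.{0, 0} @Int (@Prod.{0, 0} @Int @Int)) @x1)))))))) ?_); rewrite [← Cfsg.Agent.KOd533b37.e2]; rfl') | exact @Cfsg.Agent.KZ.ClD.sc | exact ()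
private theorem _root_.Cfsg.Agent.KOd533b37.e64 : (by first | exact @Cfsg.Agent.KZ.ClD.sc = @_root_.Cfsg.Agent.KOd533b37.k64 | exact True : Prop) := by first | (delta _root_.Cfsg.Agent.KOd533b37.k64; exact @Subtype.property _ (fun g => @Cfsg.Agent.KZ.ClD.sc = @g) _) | rfl | trivial
private noncomputable def _root_.Cfsg.Agent.KOd533b37.k65.{ku0} : ((x0 : Sort (ku0+1)) → ((x1 : (x0 → Prop)) → ((@DecidablePred.{(ku0+1)} @x0 @x1) → ((x3 : @List.{ku0} @x0) → @Decidable (@Exists.{(ku0+1)} @x0 @(fun (x4 : x0) => @And (@Membership.mem.{ku0, ku0} @x0 (@List.{ku0} @x0) (@List.instMembership.{ku0} @x0) @x3 @x4) (@x1 @x4))))))) := @(fun (x0 : Sort (ku0+1)) (x1 : (x0 → Prop)) (x2 : @DecidablePred.{(ku0+1)} @x0 @x1) (x3 : @List.{ku0} @x0) => @List.rec.{1, ku0} @x0 @(fun (x4 : @List.{ku0} @x0) => @Decidable (@Exists.{(ku0+1)}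 @x0 @(fun (x5 : x0) => @And (@Membership.mem.{ku0, ku0} @x0 (@List.{ku0} @x0) (@List.instMembership.{ku0} @x0) @x4 @x5) (@x1 @x5)))) (@Decidable.isFalse (@Exists.{(ku0+1)} @x0 @(fun (x4 : x0) => @And (@Membership.mem.{ku0, ku0} @x0 (@List.{ku0} @x0) (@List.instMembership.{ku0} @x0) (@List.nil.{ku0} @x0) @x4) (@x1 @x4))) (@List.decidableBEx._proof_1.{ku0} @x0 @x1)) @(fun (x4 : x0) (x5 : @List.{ku0} @x0) (x6 : @Decidable (@Exists.{(ku0+1)} @x0 @(fun (x6 : x0) => @And (@Membership.mem.{ku0, ku0} @x0 (@List.{ku0} @x0) (@List.instMembership.{ku0} @x0) @x5 @x6) (@x1 @x6)))) => @Decidable.rec.{1} (@x1 @x4) @(fun (x7 : @Decidable (@x1 @x4)) => @Decidable (@Exists.{(ku0+1)} @x0 @(fun (x8 : x0) => @And (@Membership.mem.{ku0, ku0} @x0 (@List.{ku0} @x0) (@List.instMembership.{ku0} @x0) (@List.cons.{ku0} @x0 @x4 @x5)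 @x8) (@x1 @x8)))) @(fun (x7 : @Not (@x1 @x4)) => @Decidable.rec.{1} (@Exists.{(ku0+1)} @x0 @(fun (x8 : x0) => @And (@Membership.mem.{ku0, ku0} @x0 (@List.{ku0} @x0) (@List.instMembership.{ku0} @x0) @x5 @x8) (@x1 @x8))) @(fun (x8 : @Decidable (@Exists.{(ku0+1)} @x0 @(fun (x8 : x0) => @And (@Membership.mem.{ku0, ku0} @x0 (@List.{ku0} @x0) (@List.instMembership.{ku0} @x0) @x5 @x8) (@x1 @x8)))) => @Decidable (@Exists.{(ku0+1)} @x0 @(fun (x9 : x0) => @And (@Membership.mem.{ku0, ku0} @x0 (@List.{ku0} @x0) (@List.instMembership.{ku0} @x0) (@List.cons.{ku0} @x0 @x4 @x5) @x9) (@x1 @x9)))) @(fun (x8 : @Not (@Exists.{(ku0+1)} @x0 @(fun (x8 : x0) => @And (@Membership.mem.{ku0, ku0} @x0 (@List.{ku0} @x0) (@List.instMembership.{ku0} @x0) @x5 @x8) (@x1 @x8)))) => @Decidable.isFalse (@Exists.{(ku0+1)} @x0 @(fun (x9 :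 x0) => @And (@Membership.mem.{ku0, ku0} @x0 (@List.{ku0} @x0) (@List.instMembership.{ku0} @x0) (@List.cons.{ku0} @x0 @x4 @x5) @x9) (@x1 @x9))) (@List.decidableBEx._proof_4.{ku0} @x0 @x1 @x4 @x5 @x7 @x8)) @(fun (x8 : @Exists.{(ku0+1)} @x0 @(fun (x8 : x0) => @And (@Membership.mem.{ku0, ku0} @x0 (@List.{ku0} @x0) (@List.instMembership.{ku0} @x0) @x5 @x8) (@x1 @x8))) => @Decidable.isTrue (@Exists.{(ku0+1)} @x0 @(fun (x9 : x0) => @And (@Membership.mem.{ku0, ku0} @x0 (@List.{ku0} @x0) (@List.instMembership.{ku0} @x0) (@List.cons.{ku0} @x0 @x4 @x5) @x9) (@x1 @x9))) (@List.decidableBEx._proof_3.{ku0} @x0 @x1 @x4 @x5 @x8)) @x6) @(fun (x7 : @x1 @x4) => @Decidable.isTrue (@Exists.{(ku0+1)} @x0 @(fun (x8 : x0) => @And (@Membership.mem.{ku0, ku0} @x0 (@List.{ku0} @x0) (@List.instMembership.{ku0} @x0) (@List.cons.{ku0}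 @x0 @x4 @x5) @x8) (@x1 @x8))) (@List.decidableBEx._proof_2.{ku0} @x0 @x1 @x4 @x5 @x7)) (@x2 @x4)) @x3)
private theorem _root_.Cfsg.Agent.KOd533b37.e65.{ku0} : @List.decidableBEx.{ku0} = @_root_.Cfsg.Agent.KOd533b37.k65.{ku0} := by delta _root_.Cfsg.Agent.KOd533b37.k65; funext a0 a1 a2 a3; refine (_root_.Cfsg.Agent.KOd533b37.e16 (fun a3 => @List.decidableBEx.{ku0} a0 a1 a2 a3) ?_ (fun c0 c1 => ?_) a3 :) <;> (rfl')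

theorem two_chk : ∀ m ∈ LW, mm m (mm m m) = m1 → ∃ x ∈ X3, fx x m = true ∧ e3 x (0, 0, 0, 0) = false ∧
    ∃ x' ∈ X8, fx x' m = true ∧ ∀ n ∈ [(0 : ℤ), 1, 2], e3 x' (sc n x) = false := by
  (first | (refine of_decide_eq_true ?_; rewrite [Cfsg.Agent.KOd533b37.e0, Cfsg.Agent.KOd533b37.e5, Cfsg.Agent.KOd533b37.e30, Cfsg.Agent.KOd533b37.e64, Cfsg.Agent.KOd533b37.e17.{0}, Cfsg.Agent.KOd533b37.e41, Cfsg.Agent.KOd533b37.e40.{0, 0}, Cfsg.Agent.KOd533b37.e26, Cfsg.Agent.KOd533b37.e65.{0}, Cfsg.Agent.KOd533b37.e37, Cfsg.Agent.KOd533b37.e39]; decide +kernel) | decide +kernel)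

theorem sym_chk : ∀ m ∈ LW, m ≠ m1 → mm m (mm m m) = m1 → ∃ x ∈ X3, fx x m = true ∧ e3 x (0, 0, 0, 0) = false ∧
    (∃ r ∈ LW, fx x r = true ∧ mm m (mm r m) = r) ∧
    (∀ u ∈ LW, fx x u = true → mm u m = mm m u → u = m1 ∨ u = m ∨ u = mm m m) ∧
    ∀ x' ∈ X3, fx x' m = true → e3 x' x = true ∨ e3 x' (sc 2 x) = true := by
  (first | (refine of_decide_eq_true ?_; rewrite [Cfsg.Agent.KOd533b37.e0, Cfsg.Agent.KOd533b37.e5, Cfsg.Agent.KOd533b37.e30, Cfsg.Agent.KOd533b37.e64, Cfsg.Agent.KOd533b37.e17.{0}, Cfsg.Agent.KOd533b37.e41, Cfsg.Agent.KOd533b37.e63, Cfsg.Agent.KOd533b37.e40.{0, 0}, Cfsg.Agent.KOd533b37.e26, Cfsg.Agent.KOd533b37.e65.{0}, Cfsg.Agent.KOd533b37.e37, Cfsg.Agent.KOd533b37.e39, Cfsg.Agent.KOd533b37.e44]; decide +kernel) | decide +kernel)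

private noncomputable def _root_.Cfsg.Agent.KOd533b37.k15 : (by first | exact type_of% @Cfsg.Agent.KZ.ClD.SG | exact Unit : Sort _) := by first | (refine @Subtype.val _ (fun g => @Cfsg.Agent.KZ.ClD.SG = @g) (@Subtype.mk _ _ (@Fin.cons.{1} (nat_lit 3) @(fun (x0 : @Fin (@Nat.succ (@OfNat.ofNat.{0} @Nat (nat_lit 3) (@instOfNatNat (nat_lit 3))))) => @Cfsg.Agent.KZ.ClD.M4) (@Prod.mk.{0, 0} @Cfsg.Agent.KZ.ClD.V4 (@Prod.{0, 0} @Cfsg.Agent.KZ.ClD.V4 (@Prod.{0, 0} @Cfsg.Agent.KZ.ClD.V4 @Cfsg.Agent.KZ.ClD.V4)) (@Prod.mk.{0, 0} @Int (@Prod.{0, 0} @Int (@Prod.{0, 0} @Int @Int)) (@Nat.rec.{1} @(fun (x0 : @Nat) => @Int) (@Int.ofNat (nat_lit 0)) @(fun (x0 : @Nat) (x1 : @Int) => @Int.negSucc @x0) (nat_lit 1)) (@Prod.mk.{0, 0} @Int (@Prod.{0, 0} @Int @Int) (@Int.ofNat (nat_lit 0)) (@Prod.mk.{0, 0} @Int @Int (@Int.ofNat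 (nat_lit 0)) (@Int.ofNat (nat_lit 0))))) (@Prod.mk.{0, 0} @Cfsg.Agent.KZ.ClD.V4 (@Prod.{0, 0} @Cfsg.Agent.KZ.ClD.V4 @Cfsg.Agent.KZ.ClD.V4) (@Prod.mk.{0, 0} @Int (@Prod.{0, 0} @Int (@Prod.{0, 0} @Int @Int)) (@Int.ofNat (nat_lit 1)) (@Prod.mk.{0, 0} @Int (@Prod.{0, 0} @Int @Int) (@Int.ofNat (nat_lit 1)) (@Prod.mk.{0, 0} @Int @Int (@Int.ofNat (nat_lit 0)) (@Int.ofNat (nat_lit 0))))) (@Prod.mk.{0, 0} @Cfsg.Agent.KZ.ClD.V4 @Cfsg.Agent.KZ.ClD.V4 (@Prod.mk.{0, 0} @Int (@Prod.{0, 0} @Int (@Prod.{0, 0} @Int @Int)) (@Int.ofNat (nat_lit 0)) (@Prod.mk.{0, 0} @Int (@Prod.{0, 0} @Int @Int) (@Int.ofNat (nat_lit 0)) (@Prod.mk.{0, 0} @Int @Int (@Int.ofNat (nat_lit 1)) (@Int.ofNat (nat_lit 0))))) (@Prod.mk.{0, 0} @Int (@Prod.{0, 0} @Int (@Prod.{0, 0} @Int @Int)) (@Int.ofNat (nat_lit 0)) (@Prod.mk.{0, 0} @Int (@Prod.{0,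 0} @Int @Int) (@Int.ofNat (nat_lit 0)) (@Prod.mk.{0, 0} @Int @Int (@Int.ofNat (nat_lit 0)) (@Int.ofNat (nat_lit 1)))))))) (@Fin.cons.{1} (nat_lit 2) @(fun (x0 : @Fin (@Nat.succ (@OfNat.ofNat.{0} @Nat (nat_lit 2) (@instOfNatNat (nat_lit 2))))) => @Cfsg.Agent.KZ.ClD.M4) (@Prod.mk.{0, 0} @Cfsg.Agent.KZ.ClD.V4 (@Prod.{0, 0} @Cfsg.Agent.KZ.ClD.V4 (@Prod.{0, 0} @Cfsg.Agent.KZ.ClD.V4 @Cfsg.Agent.KZ.ClD.V4)) (@Prod.mk.{0, 0} @Int (@Prod.{0, 0} @Int (@Prod.{0, 0} @Int @Int)) (@Int.ofNat (nat_lit 1)) (@Prod.mk.{0, 0} @Int (@Prod.{0, 0} @Int @Int) (@Int.ofNat (nat_lit 1)) (@Prod.mk.{0, 0} @Int @Int (@Int.ofNat (nat_lit 0)) (@Int.ofNat (nat_lit 0))))) (@Prod.mk.{0, 0} @Cfsg.Agent.KZ.ClD.V4 (@Prod.{0, 0} @Cfsg.Agent.KZ.ClD.V4 @Cfsg.Agent.KZ.ClD.V4) (@Prod.mk.{0, 0} @Int (@Prod.{0, 0} @Int (@Prod.{0, 0} @Int @Int))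 (@Int.ofNat (nat_lit 0)) (@Prod.mk.{0, 0} @Int (@Prod.{0, 0} @Int @Int) (@Nat.rec.{1} @(fun (x0 : @Nat) => @Int) (@Int.ofNat (nat_lit 0)) @(fun (x0 : @Nat) (x1 : @Int) => @Int.negSucc @x0) (nat_lit 1)) (@Prod.mk.{0, 0} @Int @Int (@Int.ofNat (nat_lit 0)) (@Int.ofNat (nat_lit 0))))) (@Prod.mk.{0, 0} @Cfsg.Agent.KZ.ClD.V4 @Cfsg.Agent.KZ.ClD.V4 (@Prod.mk.{0, 0} @Int (@Prod.{0, 0} @Int (@Prod.{0, 0} @Int @Int)) (@Int.ofNat (nat_lit 0)) (@Prod.mk.{0, 0} @Int (@Prod.{0, 0} @Int @Int) (@Int.ofNat (nat_lit 1)) (@Prod.mk.{0, 0} @Int @Int (@Int.ofNat (nat_lit 1)) (@Int.ofNat (nat_lit 0))))) (@Prod.mk.{0, 0} @Int (@Prod.{0, 0} @Int (@Prod.{0, 0} @Int @Int)) (@Int.ofNat (nat_lit 0)) (@Prod.mk.{0, 0} @Int (@Prod.{0, 0} @Int @Int) (@Int.ofNat (nat_lit 1)) (@Prod.mk.{0, 0} @Int @Int (@Int.ofNat (nat_lit 0)) (@Int.ofNat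 (nat_lit 1)))))))) (@Fin.cons.{1} (nat_lit 1) @(fun (x0 : @Fin (@Nat.succ (@OfNat.ofNat.{0} @Nat (nat_lit 1) (@instOfNatNat (nat_lit 1))))) => @Cfsg.Agent.KZ.ClD.M4) (@Prod.mk.{0, 0} @Cfsg.Agent.KZ.ClD.V4 (@Prod.{0, 0} @Cfsg.Agent.KZ.ClD.V4 (@Prod.{0, 0} @Cfsg.Agent.KZ.ClD.V4 @Cfsg.Agent.KZ.ClD.V4)) (@Prod.mk.{0, 0} @Int (@Prod.{0, 0} @Int (@Prod.{0, 0} @Int @Int)) (@Int.ofNat (nat_lit 1)) (@Prod.mk.{0, 0} @Int (@Prod.{0, 0} @Int @Int) (@Int.ofNat (nat_lit 0)) (@Prod.mk.{0, 0} @Int @Int (@Int.ofNat (nat_lit 0)) (@Int.ofNat (nat_lit 0))))) (@Prod.mk.{0, 0} @Cfsg.Agent.KZ.ClD.V4 (@Prod.{0, 0} @Cfsg.Agent.KZ.ClD.V4 @Cfsg.Agent.KZ.ClD.V4) (@Prod.mk.{0, 0} @Int (@Prod.{0, 0} @Int (@Prod.{0, 0} @Int @Int)) (@Int.ofNat (nat_lit 0)) (@Prod.mk.{0, 0} @Int (@Prod.{0, 0} @Int @Int) (@Int.ofNat (nat_lit 1)) (@Prod.mk.{0,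 0} @Int @Int (@Int.ofNat (nat_lit 1)) (@Int.ofNat (nat_lit 0))))) (@Prod.mk.{0, 0} @Cfsg.Agent.KZ.ClD.V4 @Cfsg.Agent.KZ.ClD.V4 (@Prod.mk.{0, 0} @Int (@Prod.{0, 0} @Int (@Prod.{0, 0} @Int @Int)) (@Int.ofNat (nat_lit 0)) (@Prod.mk.{0, 0} @Int (@Prod.{0, 0} @Int @Int) (@Int.ofNat (nat_lit 0)) (@Prod.mk.{0, 0} @Int @Int (@Nat.rec.{1} @(fun (x0 : @Nat) => @Int) (@Int.ofNat (nat_lit 0)) @(fun (x0 : @Nat) (x1 : @Int) => @Int.negSucc @x0) (nat_lit 1)) (@Int.ofNat (nat_lit 0))))) (@Prod.mk.{0, 0} @Int (@Prod.{0, 0} @Int (@Prod.{0, 0} @Int @Int)) (@Int.ofNat (nat_lit 0)) (@Prod.mk.{0, 0} @Int (@Prod.{0, 0} @Int @Int) (@Int.ofNat (nat_lit 0)) (@Prod.mk.{0, 0} @Int @Int (@Int.ofNat (nat_lit 0)) (@Int.ofNat (nat_lit 1)))))))) (@Fin.cons.{1} (nat_lit 0) @(fun (x0 : @Fin (@Nat.succ (@OfNat.ofNat.{0} @Nat (nat_lit 0)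 (@instOfNatNat (nat_lit 0))))) => @Cfsg.Agent.KZ.ClD.M4) (@Prod.mk.{0, 0} @Cfsg.Agent.KZ.ClD.V4 (@Prod.{0, 0} @Cfsg.Agent.KZ.ClD.V4 (@Prod.{0, 0} @Cfsg.Agent.KZ.ClD.V4 @Cfsg.Agent.KZ.ClD.V4)) (@Prod.mk.{0, 0} @Int (@Prod.{0, 0} @Int (@Prod.{0, 0} @Int @Int)) (@Int.ofNat (nat_lit 1)) (@Prod.mk.{0, 0} @Int (@Prod.{0, 0} @Int @Int) (@Int.ofNat (nat_lit 0)) (@Prod.mk.{0, 0} @Int @Int (@Int.ofNat (nat_lit 0)) (@Int.ofNat (nat_lit 0))))) (@Prod.mk.{0, 0} @Cfsg.Agent.KZ.ClD.V4 (@Prod.{0, 0} @Cfsg.Agent.KZ.ClD.V4 @Cfsg.Agent.KZ.ClD.V4) (@Prod.mk.{0, 0} @Int (@Prod.{0, 0} @Int (@Prod.{0, 0} @Int @Int)) (@Int.ofNat (nat_lit 0)) (@Prod.mk.{0, 0} @Int (@Prod.{0, 0} @Int @Int) (@Int.ofNat (nat_lit 1)) (@Prod.mk.{0, 0} @Int @Int (@Int.ofNat (nat_lit 0)) (@Int.ofNat (nat_lit 1))))) (@Prod.mk.{0, 0} @Cfsg.Agent.KZ.ClD.V4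 @Cfsg.Agent.KZ.ClD.V4 (@Prod.mk.{0, 0} @Int (@Prod.{0, 0} @Int (@Prod.{0, 0} @Int @Int)) (@Int.ofNat (nat_lit 0)) (@Prod.mk.{0, 0} @Int (@Prod.{0, 0} @Int @Int) (@Int.ofNat (nat_lit 0)) (@Prod.mk.{0, 0} @Int @Int (@Int.ofNat (nat_lit 1)) (@Int.ofNat (nat_lit 0))))) (@Prod.mk.{0, 0} @Int (@Prod.{0, 0} @Int (@Prod.{0, 0} @Int @Int)) (@Int.ofNat (nat_lit 0)) (@Prod.mk.{0, 0} @Int (@Prod.{0, 0} @Int @Int) (@Int.ofNat (nat_lit 0)) (@Prod.mk.{0, 0} @Int @Int (@Int.ofNat (nat_lit 0)) (@Nat.rec.{1} @(fun (x0 : @Nat) => @Int) (@Int.ofNat (nat_lit 0)) @(fun (x0 : @Nat) (x1 : @Int) => @Int.negSucc @x0) (nat_lit 1)))))))) (@Cfsg.Agent.KOd533b37.k14.{1} @Cfsg.Agent.KZ.ClD.M4))))) ?_); rewrite [← Cfsg.Agent.KOd533b37.e14.{1}]; rfl') | exact @Cfsg.Agent.KZ.ClD.SG | exact ()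
private theorem _root_.Cfsg.Agent.KOd533b37.e15 : (by first | exact @Cfsg.Agent.KZ.ClD.SG = @_root_.Cfsg.Agent.KOd533b37.k15 | exact True : Prop) := by first | (delta _root_.Cfsg.Agent.KOd533b37.k15; exact @Subtype.property _ (fun g => @Cfsg.Agent.KZ.ClD.SG = @g) _) | rfl | trivial

theorem X3_W : ∀ x ∈ X3, ∀ i : Fin 4, ∃ x' ∈ X3, e3 x' (vm x (SG i)) = true := by (first | (refine of_decide_eq_true ?_; rewrite [Cfsg.Agent.KOd533b37.e0, Cfsg.Agent.KOd533b37.e4, Cfsg.Agent.KOd533b37.e15, Cfsg.Agent.KOd533b37.e17.{0}, Cfsg.Agent.KOd533b37.e19, Cfsg.Agent.KOd533b37.e65.{0}, Cfsg.Agent.KOd533b37.e39]; decide +kernel) | decide +kernel)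

theorem X3_B : ∀ x ∈ X3, ∀ b ∈ LB, ∀ n ∈ [(1 : ℤ), 2], ∃ x' ∈ X3, e3 x' (sc n (vm x b)) = true := by (first | (refine of_decide_eq_true ?_; rewrite [Cfsg.Agent.KOd533b37.e0, Cfsg.Agent.KOd533b37.e64, Cfsg.Agent.KOd533b37.e4, Cfsg.Agent.KOd533b37.e17.{0}, Cfsg.Agent.KOd533b37.e65.{0}, Cfsg.Agent.KOd533b37.e39]; decide +kernel) | decide +kernel)

end Cfsg.Agent.KZ.ClD

private theorem dce_94b11c689257 : _root_.True := by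
  try have : _root_.True := by simp only [_root_.Cfsg.Agent.KZ.ClD.d3.eq_1]
  try have : _root_.True := by simp only [_root_.Cfsg.Agent.KZ.ClD.toV.eq_1]
  try have : _root_.True := by simp only [_root_.Cfsg.Agent.KZ.ClD.dt.eq_1]
  try have : _root_.True := by simp only [_root_.Cfsg.Agent.KZ.ClD.toM.eq_1]
  try have : _root_.True := by simp only [_root_.Cfsg.Agent.KZ.ClD.e3.eq_1]
  try have : _root_.True := by simp only [_root_.Cfsg.Agent.KZ.ClD.vm.eq_1]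
  try have : _root_.True := by simp only [_root_.Cfsg.Agent.KZ.ClD.d4.eq_1]
  try have : _root_.True := by simp only [_root_.Cfsg.Agent.KZ.ClD.mv.eq_1]
  exact _root_.True.intro
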